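import Cfsg.Agent.Lib.SuzT.SpaceSylow
import Cfsg.Agent.Lib.Orthogonal.Counts
import Cfsg.Agent.Lib.Orthogonal.IndexTwo

/-!
The commutator subgroup of the isometry group, as a set of maps of the coordinate space.
-/

set_option autoImplicit false
set_option linter.style.haveILetI false
set_option maxRecDepth 20000
set_option synthInstance.maxSize 4000
set_option synthInstance.maxHeartbeats 400000

open scoped Matrix Pointwise

namespace Cfsg.Agent.SuzT

local notation "F" => ZMod 2

theorem w_add_self : ∀ a : W, a + a = 0 := by decide +kernel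

/-- The index type. -/
abbrev I6 := (Fin 2 ⊕ Fin 2) ⊕ Fin 2

/-- The form. -/
abbrev q6 : (I6 → F) → F := Cfsg.quadFormMinus 2 F 1 1

/-- The isometry group. -/
abbrev O6 := ↥(Cfsg.isometryGroup F q6)

/-- The coordinates. -/
def σ : V ≃+ (I6 → F) where
  toFun v := Sum.elim (Sum.elim ![v.1.1, v.2.1.1] ![v.1.2, v.2.1.2]) ![v.2.2.1, v.2.2.2]
  invFun w := ((w (.inl (.inl 0)), w (.inl (.inr 0))),
    ((w (.inl (.inl 1)), w (.inl (.inr 1))), (w (.inr 0), w (.inr 1))))
  left_inv v := by simp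
  right_inv w := by
    ext ((i | i) | i) <;> fin_cases i <;> simp
  map_add' u v := by
    ext ((i | i) | i) <;> fin_cases i <;> simp

theorem q_σ : ∀ v : V, q6 (σ v) = q v := by decide +kernel

/-- The matrix of an isometry. -/
abbrev mat6 (g : O6) : Matrix I6 I6 F := ((g : GL I6 F) : Matrix I6 I6 F)

/-- The map of an isometry. -/
def app (g : O6) (v : V) : V := σ.symm (mat6 g *ᵥ σ v)

theorem app_mul (g h : O6) (v : V) : app (g * h) v = app g (app h v) := by
  show σ.symm ((mat6 g * mat6 h) *ᵥ σ v) = σ.symm (mat6 g *ᵥ σ (σ.symm (mat6 h *ᵥ σ v)))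
  rw [AddEquiv.apply_symm_apply, Matrix.mulVec_mulVec]

theorem app_one (v : V) : app 1 v = v := by
  show σ.symm ((1 : Matrix I6 I6 F) *ᵥ σ v) = v
  rw [Matrix.one_mulVec, AddEquiv.symm_apply_apply]

theorem app_inj {g h : O6} (e : app g = app h) : g = h := by
  refine Subtype.ext (Units.ext (Matrix.ext_of_mulVec_single fun i => ?_))
  have := congrFun e (σ.symm (Pi.single i 1))
  simp only [app, AddEquiv.apply_symm_apply] at this
  exact σ.symm.injective this

theorem app_add (g : O6) (u v : V) : app g (u + v) = app g u + app g v := by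
  simp [app, map_add, Matrix.mulVec_add]

theorem app_q (g : O6) (v : V) : q (app g v) = q v := by
  rw [← q_σ, ← q_σ v]
  show q6 (σ (σ.symm _)) = _
  rw [AddEquiv.apply_symm_apply]
  exact g.2 (σ v) (σ v)

/-- An involutive additive isometry as a group element. -/
theorem exists_app (f : V → V) (hadd : ∀ u v, f (u + v) = f u + f v) (hq : ∀ v, q (f v) = q v)
    (hinv : ∀ v, f (f v) = v) : ∃ g : O6, app g = f := by
  let L : (I6 → F) →ₗ[F] (I6 → F) :=
    AddMonoidHom.toZModLinearMap 2 (AddMonoidHom.mk' (fun w => σ (f (σ.symm w))) fun u v => by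
      rw [map_add, hadd, map_add])
  let M : Matrix I6 I6 F := LinearMap.toMatrix' L
  have hM : ∀ w, M *ᵥ w = σ (f (σ.symm w)) := fun w => by
    rw [LinearMap.toMatrix'_mulVec]; rfl
  have hMM : M * M = 1 := Matrix.ext_of_mulVec_single fun i => by
    rw [← Matrix.mulVec_mulVec, hM, hM, AddEquiv.symm_apply_apply, hinv, AddEquiv.apply_symm_apply,
      Matrix.one_mulVec]
  refine ⟨⟨⟨M, M, hMM, hMM⟩, fun u _ => ?_⟩, funext fun v => ?_⟩
  · show q6 (M *ᵥ u) = q6 u
    rw [hM, q_σ, hq, ← q_σ, AddEquiv.apply_symm_apply]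
  · show σ.symm (M *ᵥ σ v) = f v
    rw [hM, AddEquiv.symm_apply_apply, AddEquiv.symm_apply_apply]

/-- The commutator subgroup. -/
abbrev Om : Subgroup O6 := Cfsg.Omega F q6

theorem aniso : ∀ z₁ z₂ : F, z₁ ^ 2 + 1 * z₁ * z₂ + 1 * z₂ ^ 2 = 0 → z₁ = 0 ∧ z₂ = 0 := by decide

theorem card_O6 : Nat.card O6 = 51840 := by
  rw [Orth.card_isometryGroup (Orth.qMinus F 2 1 1) (Orth.coe_qMinus 2 1 1),
    Orth.card_oGroup_qMinus aniso]
  simp [Finset.prod_range_succ]

theorem index_Om : Om.index = 2 := by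
  show (Cfsg.Omega F (Cfsg.quadFormMinus 2 F 1 1)).index = 2
  rw [← Orth.coe_qMinus 2 (1 : ZMod 2) 1, Orth.omega_index _ (Orth.qMinus_nondeg aniso 2) (by simp)
    (Or.inr (by simp)), Orth.card_spinVal.2 (by decide)]

theorem card_Om : Nat.card Om = 25920 := by
  have h := Om.card_mul_index
  rw [index_Om, card_O6] at h
  omega

/-- Membership in the image of the commutator subgroup. -/
def IsOm (f : V → V) : Prop := ∃ g : O6, g ∈ Om ∧ app g = f

theorem IsOm.comp {f f' : V → V} (h : IsOm f) (h' : IsOm f') : IsOm (fun x => f (f' x)) := by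
  obtain ⟨g, hg, rfl⟩ := h
  obtain ⟨g', hg', rfl⟩ := h'
  exact ⟨g * g', mul_mem hg hg', funext fun x => app_mul g g' x⟩

theorem isOm_id : IsOm (fun x => x) := ⟨1, one_mem _, funext app_one⟩

theorem IsOm.congr {f f' : V → V} (h : IsOm f) (e : ∀ x, f x = f' x) : IsOm f' :=
  (funext e : f = f') ▸ h

theorem exists_tr {a : V} (ha : q a = 1) : ∃ g : O6, app g = tr a :=
  exists_app _ (tr_add a) (fun v => tr_q a v ha) (fun v => tr_tr a v ha)

theorem isOm_tr_tr {a b : V} (ha : q a = 1) (hb : q b = 1) : IsOm (fun x => tr a (tr b x)) := by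
  have adj : ∀ a b, q a = 1 → q b = 1 → bil a b = 1 → IsOm (fun x => tr a (tr b x)) := by
    intro a b ha hb hab
    obtain ⟨g, hg⟩ := exists_tr ha
    obtain ⟨g', hg'⟩ := exists_tr hb
    refine ⟨g * g', ?_, funext fun x => by rw [app_mul, hg, hg']⟩
    have h3 : g * g' * (g * g') * (g * g') = 1 := app_inj (funext fun x => by
      simp only [app_mul, app_one, hg, hg']
      exact order_three a b ha hb hab x)
    have h2 := Subgroup.mul_self_mem_of_index_two index_Om (g * g')
    have h4 : g * g' = (g * g' * (g * g'))⁻¹ := eq_inv_of_mul_eq_one_right h3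
    rw [h4]
    exact inv_mem h2
  rcases connect a b ha hb with rfl | hab | ⟨c, hc, h1, h2⟩
  · exact isOm_id.congr fun x => (tr_tr a x ha).symm
  · exact adj a b ha hb hab
  · exact ((adj a c ha hc h1).comp (adj c b hc hb h2)).congr fun x => by rw [tr_tr c _ hc]

theorem isOm_sg (v : W) : IsOm (fun x => sg e0 (inW v) x) := by
  have one : ∀ v : W, q (inW v) = 1 → IsOm (fun x => sg e0 (inW v) x) := fun v hv => by
    have h1 : q (inW v + e0) = 1 := by
      rw [q_add, hv, q_e0.1, (bil_inW_e0 v).1, add_zero, add_zero]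
    exact (isOm_tr_tr hv h1).congr fun x => (sg_eq_tr v hv x).symm
  rcases split_w v with rfl | hv | ⟨a, ha, hva⟩
  · exact isOm_id.congr fun x => ((sg_zero x).2).symm
  · exact one v hv
  · refine ((one _ hva).comp (one _ ha)).congr fun x => ?_
    rw [sg_add_sg, add_assoc, show a + a = 0 from w_add_self a, add_zero]

theorem isOm_sg1 (u : ZMod 2 × ZMod 2) : IsOm (fun x => sg e1 (plane u) x) := by
  rcases eq_or_ne u 0 with rfl | hu
  · exact isOm_id.congr fun x => ((sg_zero x).1).symm
  · have h : ∀ u : ZMod 2 × ZMod 2, u ≠ 0 → q (plane u) = 1 ∧ q (plane u + e1) = 1 := by decide +kernel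
    exact (isOm_tr_tr (h u hu).1 (h u hu).2).congr fun x => (sg_eq_tr' u hu x).symm

theorem isOm_fS (i : SIdx) : IsOm (fS i) := (isOm_sg i.1).comp (isOm_sg1 i.2)

/-- The finite group of order 64, as a subgroup of the commutator subgroup. -/
def S6 : Subgroup Om where
  carrier := {g | ∃ i : SIdx, app g.1 = fS i}
  mul_mem' := by
    rintro g h ⟨i, hi⟩ ⟨j, hj⟩
    exact ⟨sMul i j, funext fun x => by rw [Subgroup.coe_mul, app_mul, hi, hj, fS_mul]⟩
  one_mem' := ⟨0, funext fun x => by
    rw [Subgroup.coe_one, app_one]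
    exact ((sg_zero _).2.trans (sg_zero x).1).symm⟩
  inv_mem' := by
    rintro g ⟨i, hi⟩
    have hz : ∀ i : SIdx, ∃ j : SIdx, sMul i j = 0 := by decide +kernel
    obtain ⟨j, hj⟩ := hz i
    obtain ⟨k, hk, hk'⟩ := isOm_fS j
    have : g * ⟨k, hk⟩ = 1 := Subtype.ext (app_inj (funext fun x => by
      rw [Subgroup.coe_mul, app_mul, hi, hk', fS_mul, hj, Subgroup.coe_one, app_one]
      exact (sg_zero _).2.trans (sg_zero x).1))
    exact ⟨j, by rw [inv_eq_of_mul_eq_one_right this]; exact hk'⟩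

theorem card_S6 : Nat.card S6 = 64 := by
  choose g hg hg' using fun i => isOm_fS i
  rw [← Nat.card_congr (Equiv.ofBijective (fun i : SIdx => (⟨⟨g i, hg i⟩, i, hg' i⟩ : S6))
    ⟨fun i j e => ?_, fun s => ?_⟩)]
  · simp [Nat.card_eq_fintype_card]
  · have h : fS i = fS j := by
      rw [← hg' i, ← hg' j]
      exact congrArg (fun s : S6 => app s.1.1) e
    exact fS_inj i j (congrFun h _) (congrFun h _)
  · obtain ⟨s, i, hi⟩ := s
    exact ⟨i, Subtype.ext (Subtype.ext (app_inj ((hg' i).trans hi.symm)))⟩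

theorem exists_inRad {f : V → V} (h : IsOm f) (h2 : ∀ x, f (f x) = x) (h1 : ∃ x, f x ≠ x) :
    ∃ e, InRad f e := by
  classical
  haveI : Fact (Nat.Prime 2) := ⟨Nat.prime_two⟩
  obtain ⟨g, hg, rfl⟩ := h
  let γ : Om := ⟨g, hg⟩
  have hγ : γ * γ = 1 := Subtype.ext (app_inj (funext fun x => by
    rw [Subgroup.coe_mul, app_mul, Subgroup.coe_one, app_one]; exact h2 x))
  have hγ1 : γ ≠ 1 := fun e => by
    obtain ⟨x, hx⟩ := h1
    refine hx ?_
    rw [show g = 1 from congrArg Subtype.val e, app_one]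
  have hord : orderOf γ = 2 := orderOf_eq_prime (by rw [pow_two, hγ]) hγ1
  have hp : IsPGroup 2 (Subgroup.zpowers γ) :=
    IsPGroup.of_card (n := 1) (by rw [Nat.card_zpowers, hord, pow_one])
  obtain ⟨P, hP⟩ := hp.exists_le_sylow
  let S : Sylow 2 Om := Sylow.ofCard S6 (by
    rw [card_S6, card_Om]
    rw [show (25920 : ℕ) = 2 ^ 6 * 405 by norm_num, Nat.factorization_mul (by norm_num) (by norm_num),
      Finsupp.add_apply, Nat.Prime.factorization_pow Nat.prime_two, Finsupp.single_eq_same,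
      Nat.factorization_eq_zero_of_not_dvd (show ¬ 2 ∣ 405 by norm_num), add_zero]
    norm_num)
  obtain ⟨k, hk⟩ := MulAction.exists_smul_eq Om P S
  have hmem : k * γ * k⁻¹ ∈ S6 := by
    have h4 : MulAut.conj k • γ ∈ MulAut.conj k • (P : Subgroup Om) :=
      Subgroup.smul_mem_pointwise_smul _ _ _ (hP (Subgroup.mem_zpowers γ))
    rw [show MulAut.conj k • (P : Subgroup Om) = ((k • P : Sylow 2 Om) : Subgroup Om) from rfl, hk] at h4
    exact h4
  obtain ⟨i, hi⟩ := hmem
  have hkk : ∀ x, app k.1 (app k⁻¹.1 x) = x := fun x => by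
    rw [← app_mul, ← Subgroup.coe_mul, mul_inv_cancel, Subgroup.coe_one, app_one]
  have hkk' : ∀ x, app k⁻¹.1 (app k.1 x) = x := fun x => by
    rw [← app_mul, ← Subgroup.coe_mul, inv_mul_cancel, Subgroup.coe_one, app_one]
  have hc : ∀ x, app k.1 (app g (app k⁻¹.1 x)) = fS i x := fun x => by
    rw [← hi, Subgroup.coe_mul, Subgroup.coe_mul, app_mul, app_mul]
  have hii : ∀ x, fS i (fS i x) = x := fun x => by
    rw [← hc, ← hc, hkk', h2, hkk]
  have hi0 : i ≠ 0 := fun e => by
    obtain ⟨x, hx⟩ := h1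
    refine hx ?_
    have h5 := hc (app k.1 x)
    rw [hkk', e, show fS 0 (app k.1 x) = app k.1 x from (sg_zero _).2.trans (sg_zero _).1] at h5
    exact (Function.LeftInverse.injective hkk') h5
  obtain ⟨e, he0, he1, he2, he3⟩ := fS_invol i (hii _) (hii _) hi0
  have h0 : app k⁻¹.1 0 = 0 := by
    have := app_add k⁻¹.1 0 0
    rw [add_zero] at this
    exact left_eq_add.1 this
  refine ⟨app k⁻¹.1 e, ?_, fun h => he1 ?_, ?_, fun x hx => ?_⟩
  · rw [app_q, he0]
  · rw [← h0] at h
    exact (Function.LeftInverse.injective hkk) h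
  · apply Function.LeftInverse.injective hkk'
    rw [hc, hkk, he2]
  · have hb : bil (app k.1 x) e = 0 := by
      have h6 : ∀ u v, bil (app k.1 u) (app k.1 v) = bil u v := fun u v => by
        have h7 := app_q k.1 (u + v)
        rw [app_add, q_add, app_q, app_q, q_add] at h7
        exact add_left_cancel h7
      rw [← hkk e, h6]; exact hx
    have h8 := hc (app k.1 x)
    rw [hkk'] at h8
    rcases he3 _ hb with h9 | h9 <;> rw [h9] at h8
    · exact Or.inl ((Function.LeftInverse.injective hkk') h8)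
    · refine Or.inr ((Function.LeftInverse.injective hkk') ?_)
      rw [h8, app_add, hkk]

/-- The elements of the group of order 128. -/
def fT (p : SIdx × Bool) (x : V) : V := if p.2 then fS p.1 (tr a0 x) else fS p.1 x

theorem fT_true (i : SIdx) (x : V) : fT (i, true) x = fS i (tr a0 x) := if_pos rfl

theorem fT_false (i : SIdx) (x : V) : fT (i, false) x = fS i x := if_neg Bool.false_ne_true

theorem sMul_left_inv : ∀ i : SIdx, ∃ k : SIdx, sMul k i = 0 := by decide +kernel

theorem fS_zero (x : V) : fS 0 x = x := (sg_zero _).2.trans (sg_zero x).1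

attribute [local irreducible] fT fS sg tr sMul sTw app

theorem fT_mul (a b : SIdx × Bool) : ∃ c, ∀ x, fT a (fT b x) = fT c x := by
  have haa : q a0 = 1 := base_facts.2.2.2.2.2.1
  obtain ⟨i, a⟩ := a
  obtain ⟨j, b⟩ := b
  rcases a with _ | _ <;> rcases b with _ | _
  · exact ⟨⟨sMul i j, false⟩, fun x => by rw [fT_false, fT_false, fT_false, fS_mul]⟩
  · exact ⟨⟨sMul i j, true⟩, fun x => by rw [fT_false, fT_true, fT_true, fS_mul]⟩
  · exact ⟨⟨sMul i (sTw j), true⟩, fun x => by rw [fT_true, fT_false, fT_true, tr_fS, fS_mul]⟩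
  · exact ⟨⟨sMul i (sTw j), false⟩, fun x => by
      rw [fT_true, fT_true, fT_false, tr_fS, tr_tr a0 x haa, fS_mul]⟩

theorem fT_key (i j : SIdx) : ¬ ∀ x, fS i x = fS j (tr a0 x) := by
  intro e
  obtain ⟨k, hk⟩ := sMul_left_inv j
  obtain ⟨x, hx⟩ := tr_ne_fS (sMul k i)
  refine hx ?_
  rw [← fS_mul, e x, fS_mul, hk, fS_zero]

theorem fT_inj : Function.Injective fT := by
  have haa : q a0 = 1 := base_facts.2.2.2.2.2.1
  rintro ⟨i, a⟩ ⟨j, b⟩ e
  rcases a with _ | _ <;> rcases b with _ | _
  · have h := congrFun e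
    simp only [fT_false] at h
    exact Prod.ext (fS_inj i j (h _) (h _)) rfl
  · have h := congrFun e
    simp only [fT_false, fT_true] at h
    exact absurd h (fT_key i j)
  · have h := congrFun e
    simp only [fT_false, fT_true] at h
    exact absurd (fun x => (h x).symm) (fT_key j i)
  · have h := congrFun e
    simp only [fT_true] at h
    refine Prod.ext (fS_inj i j ?_ ?_) rfl
    · have h' := h (tr a0 f0)
      rwa [tr_tr a0 _ haa] at h'
    · have h' := h (tr a0 f1)
      rwa [tr_tr a0 _ haa] at h'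

/-- The transvection at `a₀` is not in the image. -/
theorem not_isOm_tr : ¬ IsOm (tr a0) := by
  rintro ⟨t, ht, htf⟩
  let el := fT
  have hel : ∀ p, IsOm (el p) := by
    rintro ⟨i, b⟩
    rcases b with _ | _
    · exact (isOm_fS i).congr fun x => (fT_false i x).symm
    · exact ((isOm_fS i).comp ⟨t, ht, htf⟩).congr fun x => (fT_true i x).symm
  have hmul : ∀ a b, ∃ c, (fun x => el a (el b x)) = el c := fun a b => by
    obtain ⟨c, hc⟩ := fT_mul a b
    exact ⟨c, funext hc⟩
  have hinj : Function.Injective el := fT_inj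
  let T : Set Om := {g | ∃ p, app g.1 = el p}
  have h1T : (1 : Om) ∈ T := ⟨(0, false), funext fun x => by
    rw [Subgroup.coe_one, app_one]
    show x = fT (0, false) x
    rw [fT_false, fS_zero]⟩
  have hmulT : ∀ {a b : Om}, a ∈ T → b ∈ T → a * b ∈ T := by
    rintro a b ⟨p, hp⟩ ⟨p', hp'⟩
    obtain ⟨c, hc⟩ := hmul p p'
    exact ⟨c, funext fun x => by rw [Subgroup.coe_mul, app_mul, hp, hp']; exact congrFun hc x⟩
  have hinvT : ∀ {a : Om}, a ∈ T → a⁻¹ ∈ T := by
    intro a ha
    have hpow : ∀ n : ℕ, a ^ n ∈ T := by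
      intro n
      induction n with
      | zero => simpa using h1T
      | succ n ih => rw [pow_succ]; exact hmulT ih ha
    have : a⁻¹ = a ^ (orderOf a - 1) :=
      inv_eq_of_mul_eq_one_right (by
        rw [← pow_succ', Nat.sub_add_cancel (orderOf_pos a), pow_orderOf_eq_one])
    rw [this]; exact hpow _
  let TS : Subgroup Om :=
    { carrier := T, mul_mem' := hmulT, one_mem' := h1T, inv_mem' := hinvT }
  choose k hk hk' using hel
  have hcard : Nat.card TS = 128 := by
    rw [← Nat.card_congr (Equiv.ofBijective (fun p => (⟨⟨k p, hk p⟩, p, hk' p⟩ : TS))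
      ⟨fun p p' e => hinj (by rw [← hk' p, ← hk' p']; exact congrArg (fun s : TS => app s.1.1) e),
       fun s => ?_⟩)]
    · simp [Nat.card_eq_fintype_card]
    · obtain ⟨s, p, hp⟩ := s
      exact ⟨p, Subtype.ext (Subtype.ext (app_inj ((hk' p).trans hp.symm)))⟩
  have h := Subgroup.card_subgroup_dvd_card TS
  rw [hcard, card_Om] at h
  norm_num at h

/-- An element of the image fixing `e₀` and the base pair modulo `e₀` lies in the radical. -/
theorem regular {f : V → V} (h : IsOm f) (he : f e0 = e0)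
    (ha : f a0 + a0 = 0 ∨ f a0 + a0 = e0) (hv : f v0 + v0 = 0 ∨ f v0 + v0 = e0) :
    ∀ x, bil x e0 = 0 → f x = x ∨ f x = x + e0 := by
  obtain ⟨g, hg, rfl⟩ := h
  have hb : ∀ u v, bil (app g u) (app g v) = bil u v := fun u v => by
    have h7 := app_q g (u + v)
    rw [app_add, q_add, app_q, app_q, q_add] at h7
    exact add_left_cancel h7
  have hf0 : q f0 = 0 ∧ bil f0 e0 = 1 := by decide +kernel
  obtain ⟨w, hw⟩ := to_f0 (app g f0) (by rw [app_q, hf0.1]) (by
    conv_lhs => rw [← he]
    rw [hb, hf0.2])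
  obtain ⟨s, hs, hs'⟩ := isOm_sg w
  let k := s * g
  have hk : ∀ x, app k x = sg e0 (inW w) (app g x) := fun x => by rw [app_mul, hs']
  have hkb : ∀ u v, bil (app k u) (app k v) = bil u v := fun u v => by
    have h7 := app_q k (u + v)
    rw [app_add, q_add, app_q, app_q, q_add] at h7
    exact add_left_cancel h7
  have ke : app k e0 = e0 := by
    rw [hk, he]; exact (show ∀ w, sg e0 (inW w) e0 = e0 by decide +kernel) w
  have kf : app k f0 = f0 := by rw [hk, hw]
  have hmv : ∀ w : W, ∀ x y : V, bil y e0 = 0 → (x + y = 0 ∨ x + y = e0) →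
      sg e0 (inW w) x + y = 0 ∨ sg e0 (inW w) x + y = e0 := by decide +kernel
  have hperp : bil a0 e0 = 0 ∧ bil a0 f0 = 0 ∧ bil v0 e0 = 0 ∧ bil v0 f0 = 0 := by decide +kernel
  have ka : app k a0 = a0 := by
    refine (fix_pair (app k a0) ?_ ?_).1 ?_
    · conv_lhs => rw [← ke]
      rw [hkb, hperp.1]
    · conv_lhs => rw [← kf]
      rw [hkb, hperp.2.1]
    · rw [hk]; exact hmv w _ _ hperp.1 ha
  have kv : app k v0 = v0 := by
    refine (fix_pair (app k v0) ?_ ?_).2 ?_
    · conv_lhs => rw [← ke]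
      rw [hkb, hperp.2.2.1]
    · conv_lhs => rw [← kf]
      rw [hkb, hperp.2.2.2]
    · rw [hk]; exact hmv w _ _ hperp.2.2.1 hv
  obtain ⟨b1, b2, b3, b4, b5, -, b7⟩ := base_facts
  have k0 : app k 0 = 0 := by
    have := app_add k 0 0
    rw [add_zero] at this
    exact left_eq_add.1 this
  have kinj : Function.Injective (app k) := fun x y e => by
    have := congrArg (app k⁻¹) e
    rwa [← app_mul, ← app_mul, inv_mul_cancel, app_one, app_one] at this
  have hext : ∀ f' : V → V, (∀ u v, f' (u + v) = f' u + f' v) → f' e0 = e0 → f' f0 = f0 →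
      f' a0 = a0 → f' v0 = v0 → f' e1 = app k e1 → f' f1 = app k f1 → ∀ x, app k x = f' x := by
    intro f' fadd h1 h2 h3 h4 h5 h6 x
    have f'0 : f' 0 = 0 := by
      have := fadd 0 0
      rw [add_zero] at this
      exact left_eq_add.1 this
    have hs1 : ∀ (c : F) (u : V), app k (sm c u) = sm c (app k u) := fun c u => by
      unfold sm; split_ifs <;> simp [k0]
    have hs2 : ∀ (c : F) (u : V), f' (sm c u) = sm c (f' u) := fun c u => by
      unfold sm; split_ifs <;> simp [f'0]
    rw [comb x]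
    simp only [app_add, fadd, hs1, hs2, ke, kf, ka, kv, h1, h2, h3, h4, h5, h6]
  have hkid : ∀ x, app k x = x := by
    rcases rot_pair (app k e1) (app k f1) (by rw [app_q, b2]) (by rw [app_q, b3])
      (fun e => b4 (kinj (e.trans k0.symm))) (fun e => b5 (kinj (e.trans k0.symm)))
      (by rw [hkb, b1]) (fun u hu => by
        have hu' : app k u = u := by rcases hu with rfl | rfl | rfl | rfl <;> assumption
        constructor
        · rw [← hu', hkb]; exact (b7 u hu).1
        · rw [← hu', hkb]; exact (b7 u hu).2) with ⟨h1, h2⟩ | ⟨h1, h2⟩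
    · exact hext (fun x => x) (fun _ _ => rfl) rfl rfl rfl rfl h1.symm h2.symm
    · exfalso
      obtain ⟨r1, r2, r3, r4, r5, r6, r7⟩ := rot_swap
      have hkt := hext (tr (e1 + f1)) (tr_add _) r1 r2 r3 r4 (r5.trans h1.symm) (r6.trans h2.symm)
      have hsw : IsOm (tr (e1 + f1)) := ⟨k, mul_mem hs hg, funext hkt⟩
      refine not_isOm_tr (((isOm_tr_tr base_facts.2.2.2.2.2.1 r7).comp hsw).congr fun x => ?_)
      rw [tr_tr _ x r7]
  intro x hx
  have h8 : ∀ w : W, ∀ x y : V, bil y e0 = 0 → sg e0 (inW w) x = y → x = y ∨ x = y + e0 := by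
    decide +kernel
  exact h8 w (app g x) x hx ((hk x).symm.trans (hkid x))

end Cfsg.Agent.SuzT
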