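import Cfsg.Agent.Lib.SuzT.Pairing

/-!
The two classes of involutions.
-/

set_option autoImplicit false
set_option linter.style.haveILetI false
set_option linter.unusedSectionVars false
set_option maxRecDepth 20000
set_option synthInstance.maxSize 4000
set_option synthInstance.maxHeartbeats 400000

namespace Cfsg.Agent.SuzT

open Subgroup LargeExtra

local notation "F" => ZMod 2

theorem inW_wp_tr : ∀ a w : W, inW (wp (tr (inW a) (inW w))) = tr (inW a) (inW w) := by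
  decide +kernel

theorem inW_ne : ∀ w : W, inW w = 0 → w = 0 := by decide +kernel

theorem bil_tr {c : V} (hc : q c = 1) (u v : V) : bil (tr c u) (tr c v) = bil u v := by
  have h7 := tr_q c (u + v) hc
  rw [tr_add, q_add, tr_q c u hc, tr_q c v hc, q_add] at h7
  exact add_left_cancel h7

theorem apair_step {c : W} (hc : q (inW c) = 1) {a v : W} (h : APair a v) :
    APair (wp (tr (inW c) (inW a))) (wp (tr (inW c) (inW v))) := by
  obtain ⟨h1, h2, h3⟩ := h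
  exact ⟨by rw [inW_wp_tr, tr_q _ _ hc, h1], by rw [inW_wp_tr, tr_q _ _ hc, h2],
    by rw [inW_wp_tr, inW_wp_tr, bil_tr hc, h3]⟩

/-- Pairs can be moved to the base pair. -/
theorem pair_move {a v : W} (h : APair a v) : ∃ f, IsOm f ∧ f e0 = e0 ∧
    f (inW a) = inW (wp a0) ∧ f (inW v) = inW (wp v0) := by
  obtain ⟨c, hc, d, hd, hcd⟩ := move_w a (wp a0) (h.1.trans pair0.1.symm) (pair_ne a v h).1
    (pair_ne _ _ pair0).1
  have h1 := apair_step hc (apair_step hd h)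
  rw [inW_wp_tr, inW_wp_tr, hcd, wp_inW, ← inW_wp_tr d v] at h1
  obtain ⟨c', hc', d', hd', e1, e2⟩ := move_fix _ _ (wp v0) h1 pair0
  refine ⟨fun x => tr (inW c') (tr (inW d') (tr (inW c) (tr (inW d) x))),
    (isOm_tr_tr hc' hd').comp (isOm_tr_tr hc hd), ?_, ?_, ?_⟩
  · simp only [tr_e0]
  · show tr (inW c') (tr (inW d') (tr (inW c) (tr (inW d) (inW a)))) = _
    rw [hcd, e1]
  · show tr (inW c') (tr (inW d') (tr (inW c) (tr (inW d) (inW v)))) = _
    rw [← e2, inW_wp_tr, inW_wp_tr]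

variable {G : Type*} [Group G]

theorem map_conj_conj (Q : Subgroup G) (a b : G) :
    (Q.map (MulAut.conj a).toMonoidHom).map (MulAut.conj b).toMonoidHom =
      Q.map (MulAut.conj (b * a)).toMonoidHom := by
  rw [Subgroup.map_map]
  congr 1
  ext x
  simp [mul_assoc]

variable [Finite G] {z : G} {Q : Subgroup G} {π : G → V} {ρ : G → V → V}

namespace Su

variable (S : Su z Q π ρ)
include S

theorem sing_of {x : G} (hx : x ∈ Q) (h : x * x = 1) : q (π x) = 0 := by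
  rcases F_cases (q (π x)) with e | e
  · exact e
  · exfalso
    have h' := S.sq x hx
    rw [h, e, zb_one] at h'
    exact S.loc.ne_one h'.symm

theorem conj_singular {w : V} (hw : q w = 0) (hw0 : w ≠ 0) :
    ∃ h, h * z = z * h ∧ ρ h e0 = w := by
  obtain ⟨a, ha, b, hb, e⟩ := move_sing w hw hw0
  obtain ⟨h, hh, hρ⟩ := S.lift _ (isOm_tr_tr ha hb)
  exact ⟨h, hh, by rw [hρ]; exact e⟩

theorem card_conj (k : G) : 32 ≤ Nat.card ↥(Q.map (MulAut.conj k).toMonoidHom) := by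
  rw [card_map_of_injective (MulAut.conj k).injective, S.card]; norm_num

/-- The conjugates `k z k⁻¹` and `m z m⁻¹` lie in each other's extraspecial subgroups. -/
theorem mem_swap {k m : G} (h : m * z * m⁻¹ ∈ Q.map (MulAut.conj k).toMonoidHom)
    (hne : m * z * m⁻¹ ≠ k * z * k⁻¹) : k * z * k⁻¹ ∈ Q.map (MulAut.conj m).toMonoidHom := by
  have e : m * k⁻¹ * (k * z * k⁻¹) * (m * k⁻¹)⁻¹ = m * z * m⁻¹ := by group
  have h1 := (S.loc.conj k).mem_conj (S.card_conj k) (g := m * k⁻¹) (by rw [e]; exact h)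
    (by rw [e]; exact hne)
  rw [map_conj_conj, inv_mul_cancel_right] at h1
  exact h1

theorem center_sylow : ∀ x : G, x * x = 1 → ∃ g : G, g * x * g⁻¹ * z = z * (g * x * g⁻¹) := by
  haveI : Fact (Nat.Prime 2) := ⟨Nat.prime_two⟩
  intro x hx
  obtain ⟨T, hT⟩ := S.loc.xs.1.1.exists_le_sylow
  haveI : Nontrivial (T : Subgroup G) := by
    refine ⟨⟨⟨z, hT S.loc.mem⟩, 1, fun e => S.loc.ne_one (congrArg Subtype.val e)⟩⟩
  obtain ⟨⟨c, hc⟩, hc1⟩ : ∃ c : center ↥(T : Subgroup G), c ≠ 1 :=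
    haveI := T.isPGroup'.center_nontrivial
    exists_ne 1
  have hcent : ∀ t ∈ (T : Subgroup G), (c : G) * t = t * c := fun t ht =>
    (congrArg Subtype.val (mem_center_iff.1 hc ⟨t, ht⟩)).symm
  have hcz : (c : G) = z := by
    rcases S.loc.mem_zpowers_iff.1
      (S.loc.cent (mem_centralizer_iff.2 fun q hq => (hcent q (hT hq)).symm)) with e | e
    · exact absurd (Subtype.ext (Subtype.ext e)) hc1
    · exact e
  have hp : IsPGroup 2 (zpowers x) := by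
    intro y
    refine ⟨1, Subtype.ext ?_⟩
    obtain ⟨i, hi⟩ := mem_zpowers_iff.1 y.2
    rw [SubmonoidClass.coe_pow, ← hi, ← zpow_natCast, ← zpow_mul, mul_comm, zpow_mul]
    simp [pow_two, hx]
  obtain ⟨P, hP⟩ := hp.exists_le_sylow
  obtain ⟨k, hk⟩ := MulAction.exists_smul_eq G P T
  refine ⟨k, ?_⟩
  have hmem : k * x * k⁻¹ ∈ (T : Subgroup G) := by
    rw [← hk]
    exact ⟨x, hP (mem_zpowers x), rfl⟩
  have := hcent _ hmem
  rw [hcz] at this
  exact this.symm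

end Su

/-- `t` lies in the extraspecial subgroup of a conjugate of `z` lying in `Q`, other than `z`. -/
def ZT (z : G) (Q : Subgroup G) (t : G) : Prop :=
  ∃ m : G, m * z * m⁻¹ ∈ Q ∧ m * z * m⁻¹ ≠ z ∧ t ∈ Q.map (MulAut.conj m).toMonoidHom

namespace Fr

variable {s g : G} (X : Fr z Q π ρ s g)
include X

/-- Every non-trivial involution of `Q` is a conjugate of `z`. -/
theorem Q_invol {x : G} (hx : x ∈ Q) (h2 : x * x = 1) (h1 : x ≠ 1) : IsConj z x := by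
  by_cases hz : x = z
  · exact hz ▸ IsConj.refl z
  have hπ : π x ≠ 0 := fun e => ((X.S.pi_eq x hx).1 e).elim h1 hz
  obtain ⟨h, hh, he⟩ := X.S.conj_singular (X.S.sing_of hx h2) hπ
  have hm := X.S.conj_mem hh X.sQ
  have hp : π (h * s * h⁻¹) = π x := by rw [X.S.conj h hh s X.sQ, X.se, he]
  refine isConj_iff.2 ?_
  rcases X.S.eq_of_pi hx hm hp.symm with e | e
  · exact ⟨h * g, by rw [e, ← X.sconj]; group⟩
  · obtain ⟨y, hy, hπy, hys⟩ := X.exists_y0
    have hyz : y * z * y⁻¹ = z := mul_inv_eq_iff_eq_mul.2 (X.S.Qz hy)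
    refine ⟨h * y * g, ?_⟩
    rw [show h * y * g * z * (h * y * g)⁻¹ = h * (y * (g * z * g⁻¹) * y⁻¹) * h⁻¹ by group,
      X.sconj, hys, e, show h * (s * z) * h⁻¹ = h * s * h⁻¹ * (h * z * h⁻¹) by group,
      mul_inv_eq_iff_eq_mul.2 hh]

theorem conj_Q₁ {x : G} (hx : x ∈ Q₁ Q g) (h2 : x * x = 1) (h1 : x ≠ 1) : IsConj z x := by
  obtain ⟨q₁, hq₁, rfl⟩ := hx
  have h2' : q₁ * q₁ = 1 := (MulAut.conj g).injective (by rw [map_mul, map_one]; exact h2)
  have h1' : q₁ ≠ 1 := fun e => h1 (by rw [e]; exact map_one _)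
  exact (X.Q_invol hq₁ h2' h1').trans (isConj_iff.2 ⟨g, rfl⟩)

theorem ab_pi {a b x : G} (hb : b ∈ hB z Q g) (hx : x = a * b) (ha : a ∈ Q) :
    ρ x = sg e0 (inW (vb ρ b)) := by
  funext v
  rw [hx, X.S.rho_mul (X.S.Qz ha) (X.B_comm hb).1, (X.S.ker a (X.S.Qz ha)).2 ha, X.rho_B hb]

theorem conj_A_by_A {a a₂ : G} (ha : a ∈ hA Q s) (ha₂ : a₂ ∈ hA Q s) :
    a₂ * a * a₂⁻¹ = a * zb z (bil (inW (wp (π a₂))) (inW (wp (π a)))) := by
  rw [X.S.rule ha₂.1 ha.1, bil_wp _ _ (X.mem_A.1 ha₂).2 (X.mem_A.1 ha).2, mul_assoc a a₂,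
    zb_comm (X.S.Qz ha₂.1), ← mul_assoc, mul_inv_cancel_right]

theorem E_inv {d : G} (hd : d ∈ Q ⊓ Q₁ Q g) : d * d = 1 :=
  (pow_two d).symm.trans (X.orth.elementary.2 d hd)

theorem conj_B_by_A {b a₂ : G} (hb : b ∈ hB z Q g) (ha₂ : a₂ ∈ hA Q s) :
    a₂ * b * a₂⁻¹ = b * (zb z (beta π ρ a₂ b) * zb s (beta π ρ a₂ b)) := by
  have h := X.conj_rule ha₂ hb
  set e := zb z (beta π ρ a₂ b) * zb s (beta π ρ a₂ b)
  have he : e ∈ Q ⊓ Q₁ Q g := X.zb_mem _ _
  have h1 : b * a₂ = e * a₂ * b := by rw [← h]; group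
  have h2 : a₂ * b = e * b * a₂ := by
    calc a₂ * b = e * e * a₂ * b := by rw [X.E_inv he, one_mul]
      _ = e * (b * a₂) := by rw [h1]; group
      _ = e * b * a₂ := by group
  rw [h2, mul_inv_cancel_right, X.E_central_B hb he]

theorem sq_ab {a b : G} (ha : a ∈ hA Q s) (hb : b ∈ hB z Q g) :
    a * b * (a * b) = zb z (q (π a) + beta π ρ a b) * zb s (beta π ρ a b + q (inW (vb ρ b))) := by
  have h := X.conj_rule ha hb
  have hc := X.E_central_A ha (X.zb_mem (beta π ρ a b) (beta π ρ a b))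
  calc a * b * (a * b) = a * (b * a * b⁻¹) * (b * b) := by group
    _ = zb z (beta π ρ a b) * zb s (beta π ρ a b) * (a * a) * (b * b) := by
        rw [h, ← mul_assoc a, hc]; group
    _ = zb z (beta π ρ a b) * zb s (beta π ρ a b) * (zb z (q (π a)) * zb s 0) *
        (zb z 0 * zb s (q (inW (vb ρ b)))) := by
        rw [X.S.sq a ha.1, X.B_sq hb, zb_zero s, zb_zero z, one_mul, mul_one]
    _ = _ := by rw [X.zb_mul', X.zb_mul']; congr 2 <;> ring

theorem zb_eq_one {c d : F} (h : zb z c * zb s d = 1) : c = 0 ∧ d = 0 := by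
  have h1 := X.pi_zb c d
  rw [h, X.S.pi_one] at h1
  have : ∀ d : F, 0 = sm d e0 → d = 0 := by decide +kernel
  have hd := this d h1
  refine ⟨(F_cases c).resolve_right fun hc => X.S.loc.ne_one ?_, hd⟩
  rwa [hd, hc, zb_zero, zb_one, mul_one] at h

theorem mem_third {y x : G} (hx : x ∈ hB z Q g) :
    y * x * y⁻¹ ∈ Q.map (MulAut.conj (y * g)).toMonoidHom := by
  rw [mem_conjMap, show (y * g)⁻¹ * (y * x * y⁻¹) * (y * g) = g⁻¹ * x * g by group]
  exact mem_conjMap.1 hx.1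

/-- An involution in the radical outside `Q` is of the first kind or a conjugate of the base. -/
theorem rad_cases {a b a₁ b₁ : G} (ha : a ∈ hA Q s) (hb : b ∈ hB z Q g) (hv : vb ρ b ≠ 0)
    (h2 : a * b * (a * b) = 1) (ha₁ : a₁ ∈ hA Q s) (hb₁ : b₁ ∈ hB z Q g)
    (hwa : wp (π a₁) = wp a0) (hwb : vb ρ b₁ = wp v0) :
    ∃ h, h * z = z * h ∧ (ZT z Q (h * (a * b) * h⁻¹) ∨ h * (a * b) * h⁻¹ = a₁ * b₁) := by
  rw [X.sq_ab ha hb] at h2
  obtain ⟨e1, e2⟩ := X.zb_eq_one h2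
  have eq : ∀ c d : F, c + d = 0 → c = d := by decide
  have hqa : q (inW (wp (π a))) = beta π ρ a b := by
    rw [← q_wp _ (X.mem_A.1 ha).2]; exact eq _ _ e1
  rcases pair_cases (wp (π a)) (vb ρ b) hqa (eq _ _ e2).symm with h | h | h | h
  · refine ⟨1, by simp, Or.inl ?_⟩
    rw [one_mul, inv_one, mul_one]
    refine ⟨g, X.sconj ▸ X.sQ, fun e => X.sne (X.sconj.symm.trans e), mul_mem ?_ hb.1⟩
    have hd := X.A_diff (one_mem _) ha (by rw [h, X.S.pi_one]; rfl)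
    rw [inv_one, one_mul] at hd
    exact hd.2
  · exact absurd h hv
  · refine ⟨1, by simp, Or.inl ?_⟩
    rw [one_mul, inv_one, mul_one]
    obtain ⟨y, hy, hπy, hys⟩ := X.exists_y0
    obtain ⟨d, hd, hyb, hd1, hd2⟩ := X.third hy hπy hb
    have hyz : y * z * y⁻¹ = z := mul_inv_eq_iff_eq_mul.2 (X.S.Qz hy)
    have hs' : y * g * z * (y * g)⁻¹ = s * z := by
      rw [show y * g * z * (y * g)⁻¹ = y * (g * z * g⁻¹) * y⁻¹ by group, X.sconj, hys]
    refine ⟨y * g, hs' ▸ mul_mem X.sQ X.S.loc.mem, ?_, ?_⟩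
    · rw [hs']
      intro e
      exact X.sne_one (mul_eq_right.1 e)
    · have he : d⁻¹ * a ∈ Q ⊓ Q₁ Q g := X.A_diff hd ha (by rw [hd1, h])
      have hzc : d * b = b * d := by
        have h3 := X.conj_rule hd hb
        rw [beta, hd1, bil_self, zb_zero, zb_zero, one_mul, one_mul] at h3
        exact (mul_inv_eq_iff_eq_mul.1 h3).symm
      have hdec : a * b = y * b * y⁻¹ * (d⁻¹ * a) := by
        calc a * b = d * ((d⁻¹ * a) * b) := by group
          _ = d * (b * (d⁻¹ * a)) := by rw [X.E_central_B hb he]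
          _ = b * d * (d⁻¹ * a) := by rw [← mul_assoc, hzc]
          _ = y * b * y⁻¹ * (d⁻¹ * a) := by rw [hyb]
      rw [hdec]
      have hzm : z ∈ Q.map (MulAut.conj (y * g)).toMonoidHom :=
        hyz ▸ X.mem_third (y := y) ⟨X.zQ₁, mem_centralizer_one.2 rfl⟩
      have hszm : s * z ∈ Q.map (MulAut.conj (y * g)).toMonoidHom :=
        hys ▸ X.mem_third (y := y) ⟨X.loc'.mem, mem_centralizer_one.2 X.sz⟩
      refine mul_mem (X.mem_third hb) ?_
      rcases X.mem_inter.1 he with e | e | e | e <;> rw [e]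
      · exact one_mem _
      · exact hzm
      · rw [show s = s * z * z by rw [mul_assoc, X.S.loc.sq, mul_one]]
        exact mul_mem hszm hzm
      · exact hszm
  · obtain ⟨f, hf, hfe, hfa, hfv⟩ := pair_move h
    obtain ⟨c, hcz, hcs, rfl⟩ := X.lift_fix hf hfe
    obtain ⟨hca, hcw⟩ := X.conj_A hcz hcs ha
    obtain ⟨hcb, hcv⟩ := X.conj_B hcz hcs hb
    rw [hfa, wp_inW, ← hwa] at hcw
    rw [hfv, wp_inW, ← hwb] at hcv
    have he₁ := X.A_diff ha₁ hca hcw.symm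
    have he₂ := X.B_diff hb₁ hcb hcv.symm
    have hE : b₁⁻¹ * (c * b * c⁻¹) * (a₁⁻¹ * (c * a * c⁻¹)) ∈ Q ⊓ Q₁ Q g := mul_mem he₂ he₁
    have hdec : c * (a * b) * c⁻¹ =
        a₁ * b₁ * (b₁⁻¹ * (c * b * c⁻¹) * (a₁⁻¹ * (c * a * c⁻¹))) := by
      have hk := X.E_central_B hcb he₁
      calc c * (a * b) * c⁻¹ = a₁ * ((a₁⁻¹ * (c * a * c⁻¹)) * (c * b * c⁻¹)) := by group
        _ = a₁ * ((c * b * c⁻¹) * (a₁⁻¹ * (c * a * c⁻¹))) := by rw [hk]
        _ = _ := by group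
    obtain ⟨x₁, x₂, he, -⟩ := X.E_form hE
    rw [he] at hdec
    obtain ⟨w, hw1, hw2⟩ := shift_all x₁ x₂
    obtain ⟨a₂, ha₂, rfl⟩ := X.exists_A w
    have hcc : a₂ * (a₁ * b₁) * a₂⁻¹ = a₁ * b₁ * (zb z x₁ * zb s x₂) := by
      have k1 : beta π ρ a₂ b₁ = x₂ := by rw [beta, hwb, hw2]
      have k2 := zb_comm (X.B_comm hb₁).1 (bil (inW (wp (π a₂))) (inW (wp (π a₁))))
      calc a₂ * (a₁ * b₁) * a₂⁻¹ = a₂ * a₁ * a₂⁻¹ * (a₂ * b₁ * a₂⁻¹) := by group
        _ = a₁ * (zb z (bil (inW (wp (π a₂))) (inW (wp (π a₁)))) * b₁) *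
            (zb z (beta π ρ a₂ b₁) * zb s (beta π ρ a₂ b₁)) := by
            rw [X.conj_A_by_A ha₁ ha₂, X.conj_B_by_A hb₁ ha₂]; group
        _ = a₁ * b₁ * (zb z (bil (inW (wp (π a₂))) (inW (wp (π a₁)))) * zb z x₂) * zb s x₂ := by
            rw [← k2, k1]; group
        _ = _ := by
            rw [← zb_add X.S.loc.sq, hwa, show bil (inW (wp (π a₂))) (inW (wp a0)) + x₂ = x₁ by
              rw [← hw1, ← hw2]]
            group
    refine ⟨a₂⁻¹ * c, ((show Commute a₂ z from X.S.Qz ha₂.1).inv_left.mul_left hcz).eq, Or.inr ?_⟩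
    calc a₂⁻¹ * c * (a * b) * (a₂⁻¹ * c)⁻¹ = a₂⁻¹ * (c * (a * b) * c⁻¹) * a₂ := by group
      _ = a₁ * b₁ := by rw [hdec, ← hcc]; group

/-- Every involution of the centraliser outside `Q`. -/
theorem invol_cases {t a₁ b₁ : G} (htz : t * z = z * t) (ht2 : t * t = 1) (htQ : t ∉ Q)
    (ha₁ : a₁ ∈ hA Q s) (hb₁ : b₁ ∈ hB z Q g)
    (hwa : wp (π a₁) = wp a0) (hwb : vb ρ b₁ = wp v0) :
    ∃ h, h * z = z * h ∧ (ZT z Q (h * t * h⁻¹) ∨ h * t * h⁻¹ = a₁ * b₁) := by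
  have hinv : ∀ x, ρ t (ρ t x) = x := fun x => by rw [← X.S.rho_mul htz htz, ht2, X.S.rho_one]
  have hne : ∃ x, ρ t x ≠ x := by
    by_contra hcon
    push Not at hcon
    exact htQ ((X.S.ker t htz).1 hcon)
  obtain ⟨e, he0, he1, he2, he3⟩ := exists_inRad (X.S.om t htz) hinv hne
  obtain ⟨k, hk, hke⟩ := X.S.conj_singular he0 he1
  have hki : k⁻¹ * z = z * k⁻¹ := ((show Commute k z from hk).inv_left).eq
  set t' := k⁻¹ * t * k
  have htz' : t' * z = z * t' := (((show Commute k⁻¹ z from hki).mul_left htz).mul_left hk).eq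
  have ht2' : t' * t' = 1 := by
    rw [show t' * t' = k⁻¹ * (t * t) * k by simp [t', mul_assoc], ht2]; group
  have hρ : ∀ x, ρ t' x = ρ k⁻¹ (ρ t (ρ k x)) := fun x => by
    rw [show t' = k⁻¹ * (t * k) by simp [t', mul_assoc],
      X.S.rho_mul hki ((show Commute t z from htz).mul_left hk).eq, X.S.rho_mul htz hk]
  have hkk : ∀ x, ρ k⁻¹ (ρ k x) = x := fun x => by
    rw [← X.S.rho_mul hki hk, inv_mul_cancel, X.S.rho_one]
  have hfix : ρ t' e0 = e0 := by rw [hρ, hke, he2, ← hke, hkk]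
  have hrad := X.S.rho_rad htz' hfix fun x hx => by
    have hb : bil (ρ k x) e = 0 := by rw [← hke, X.S.rho_bil hk, hx]
    rw [hρ]
    rcases he3 _ hb with h | h <;> rw [h]
    · exact Or.inl (hkk x)
    · exact Or.inr (by rw [X.S.rho_add hki, hkk, ← hke, hkk])
  set v := wp (ρ t' f0)
  have hv0 : v ≠ 0 := fun h => by
    refine htQ ?_
    have : t' ∈ Q := (X.S.ker t' htz').1 fun x => by rw [hrad, h, (sg_zero x).2]
    simpa [t', mul_assoc] using X.S.conj_mem hk this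
  obtain ⟨b, hb, hvb⟩ := X.exists_B v
  have hbi : b⁻¹ * z = z * b⁻¹ := ((show Commute b z from (X.B_comm hb).1).inv_left).eq
  have htb : t' * b⁻¹ * z = z * (t' * b⁻¹) :=
    ((show Commute t' z from htz').mul_left hbi).eq
  have hρb : ∀ x, ρ b⁻¹ x = ρ b x := fun x => by
    refine X.S.rho_inj (X.B_comm hb).1 ?_
    rw [← X.S.rho_mul (X.B_comm hb).1 hbi, mul_inv_cancel, X.S.rho_one, X.rho_B hb, X.rho_B hb,
      sg_add_sg, w_add_self, (sg_zero x).2]
  have haQ : t' * b⁻¹ ∈ Q := (X.S.ker _ htb).1 fun x => by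
    rw [X.S.rho_mul htz' hbi, hρb, hrad, X.rho_B hb, hvb, sg_add_sg, w_add_self, (sg_zero x).2]
  set a := t' * b⁻¹ with hadef
  have hab : t' = a * b := by simp [hadef]
  have haA : a ∈ hA Q s := by
    refine X.mem_A.2 ⟨haQ, sg_fix v hv0 (π a) ?_⟩
    have h1 : b * a * b⁻¹ = a⁻¹ * (b * b)⁻¹ := by
      have h4 : a * b * (a * b) = 1 := by rw [← hab, ht2']
      calc b * a * b⁻¹ = a⁻¹ * (a * b * (a * b)) * (b * b)⁻¹ := by group
        _ = a⁻¹ * (b * b)⁻¹ := by rw [h4, mul_one]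
    have hbbQ : (b * b)⁻¹ ∈ Q ∧ (π (b * b)⁻¹ = 0 ∨ π (b * b)⁻¹ = e0) := by
      rcases X.loc'.sq_cases hb.1 with e | e <;> rw [e]
      · rw [inv_one]; exact ⟨one_mem _, Or.inl X.S.pi_one⟩
      · exact ⟨Q.inv_mem X.sQ, Or.inr (by rw [X.S.pi_inv X.sQ, X.se])⟩
    have h5 := congrArg π h1
    rw [X.S.conj b (X.B_comm hb).1 a haQ, X.rho_B hb, hvb,
      X.S.pi_mul _ (Q.inv_mem haQ) _ hbbQ.1, X.S.pi_inv haQ] at h5
    rw [h5, add_comm (π a), add_assoc, add_self, add_zero]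
    exact hbbQ.2
  obtain ⟨h, hh, hres⟩ := X.rad_cases haA hb (hvb ▸ hv0) (by rw [← hab, ht2']) ha₁ hb₁ hwa hwb
  refine ⟨h * k⁻¹, ((show Commute h z from hh).mul_left hki).eq, ?_⟩
  rwa [show h * k⁻¹ * t * (h * k⁻¹)⁻¹ = h * (a * b) * h⁻¹ by
    rw [← hab]; simp [t', mul_assoc]]

section Base

variable {a₁ b₁ : G} (ha₁ : a₁ ∈ hA Q s) (hb₁ : b₁ ∈ hB z Q g)
  (hwa : wp (π a₁) = wp a0) (hwb : vb ρ b₁ = wp v0)
include ha₁ hb₁ hwa hwb

theorem base_facts' : a₁ * b₁ * z = z * (a₁ * b₁) ∧ a₁ * b₁ * s = s * (a₁ * b₁) ∧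
    a₁ * b₁ * (a₁ * b₁) = 1 ∧ a₁ * b₁ ∉ Q := by
  refine ⟨((show Commute a₁ z from X.S.Qz ha₁.1).mul_left (X.B_comm hb₁).1).eq,
    ((show Commute a₁ s from mem_centralizer_one.1 ha₁.2).mul_left (X.B_comm hb₁).2).eq, ?_, fun h => ?_⟩
  · rw [X.sq_ab ha₁ hb₁, q_wp _ (X.mem_A.1 ha₁).2, beta, hwa, hwb, pair0.1, pair0.2.1, pair0.2.2,
      show (1 : F) + 1 = 0 by decide, zb_zero, zb_zero, one_mul]
  · have := (X.vb_eq_zero hb₁).2 ⟨by simpa using Q.mul_mem (Q.inv_mem ha₁.1) h, hb₁.1⟩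
    rw [hwb] at this
    exact (pair_ne _ _ pair0).2.1 this

/-- The base element is in no extraspecial subgroup of a conjugate of `z` in `Q` other than `z`. -/
theorem not_ZT : ¬ ZT z Q (a₁ * b₁) := by
  rintro ⟨m, hmQ, hmne, hxm⟩
  set w := m * z * m⁻¹ with hw
  have hw2 : w * w = 1 := (X.S.loc.conj m).sq
  have hπw : π w ≠ 0 := fun e => ((X.S.pi_eq w hmQ).1 e).elim (X.S.loc.conj m).ne_one hmne
  obtain ⟨h, hh, he⟩ := X.S.conj_singular (X.S.sing_of hmQ hw2) hπw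
  obtain ⟨y, hy, hπy, hys⟩ := X.exists_y0
  have hyz := X.S.Qz hy
  obtain ⟨hxz, -, -, -⟩ := X.base_facts' ha₁ hb₁ hwa hwb
  -- move `s` to `w`
  obtain ⟨h', hh', hπh, hsw⟩ : ∃ h', h' * z = z * h' ∧ ρ h' e0 = π w ∧ h' * s * h'⁻¹ = w := by
    have hm := X.S.conj_mem hh X.sQ
    have hp : π (h * s * h⁻¹) = π w := by rw [X.S.conj h hh s X.sQ, X.se, he]
    rcases X.S.eq_of_pi hmQ hm hp.symm with e | e
    · exact ⟨h, hh, he, e.symm⟩
    · refine ⟨h * y, ((show Commute h z from hh).mul_left hyz).eq, ?_, ?_⟩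
      · rw [X.S.rho_mul hh hyz, (X.S.ker y hyz).2 hy, he]
      · rw [e, show h * y * s * (h * y)⁻¹ = h * (y * s * y⁻¹) * h⁻¹ by group, hys,
          show h * (s * z) * h⁻¹ = h * s * h⁻¹ * (h * z * h⁻¹) by group, mul_inv_eq_iff_eq_mul.2 hh]
  have hQm : Q.map (MulAut.conj m).toMonoidHom = Q.map (MulAut.conj (h' * g)).toMonoidHom :=
    X.S.loc.map_conj_eq (by
      rw [← hw, show h' * g * z * (h' * g)⁻¹ = h' * (g * z * g⁻¹) * h'⁻¹ by group, X.sconj, hsw])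
  have hhi : h'⁻¹ * z = z * h'⁻¹ := ((show Commute h' z from hh').inv_left).eq
  have hbm : h'⁻¹ * (a₁ * b₁) * h' ∈ hB z Q g := by
    refine ⟨?_, mem_centralizer_one.2 (((show Commute h'⁻¹ z from hhi).mul_left hxz).mul_left hh').eq⟩
    rw [hQm, mem_conjMap] at hxm
    show _ ∈ Q₁ Q g
    rw [mem_conjMap]
    rwa [show g⁻¹ * (h'⁻¹ * (a₁ * b₁) * h') * g = (h' * g)⁻¹ * (a₁ * b₁) * (h' * g) by group]
  have hxρ : ρ (a₁ * b₁) = sg e0 (inW (wp v0)) := by rw [X.ab_pi hb₁ rfl ha₁.1, hwb]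
  have hrad : InRad (sg e0 (inW (wp v0))) (π w) := by
    have key : ∀ x, sg e0 (inW (wp v0)) (ρ h' x) =
        ρ h' (sg e0 (inW (vb ρ (h'⁻¹ * (a₁ * b₁) * h'))) x) := by
      intro x
      rw [← hxρ, ← X.rho_B hbm, ← X.S.rho_mul hxz hh',
        ← X.S.rho_mul hh' (X.B_comm hbm).1]
      congr 1; group
    have hsg0 : ∀ v : W, sg e0 (inW v) e0 = e0 := by decide +kernel
    refine ⟨X.S.sing_of hmQ hw2, hπw, ?_, fun x hx => ?_⟩
    · rw [← hπh, key, hsg0]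
    · obtain ⟨x₀, rfl⟩ : ∃ x₀, x = ρ h' x₀ := ⟨ρ h'⁻¹ x, by
        rw [← X.S.rho_mul hh' hhi, mul_inv_cancel, X.S.rho_one]⟩
      rw [← hπh, X.S.rho_bil hh'] at hx
      rw [key, sg_e0_perp _ _ hx, ← hπh]
      rcases F_cases (bil x₀ (inW (vb ρ (h'⁻¹ * (a₁ * b₁) * h')))) with e | e <;> rw [e]
      · exact Or.inl (by rw [show sm (0 : F) e0 = 0 from if_pos rfl, add_zero])
      · exact Or.inr (by rw [show sm (1 : F) e0 = e0 from if_neg (by decide), X.S.rho_add hh'])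
  have hwe := rad_unique (wp v0) pair0.2.1 _ hrad
  rcases X.S.eq_of_pi hmQ X.sQ (hwe.trans X.se.symm) with e | e
  · -- in the right half
    have hQ₁ : Q.map (MulAut.conj m).toMonoidHom = Q₁ Q g :=
      X.S.loc.map_conj_eq (hw.symm.trans (e.trans X.sconj.symm))
    rw [hQ₁] at hxm
    have haE : a₁ ∈ Q ⊓ Q₁ Q g := ⟨ha₁.1, by
      rw [show a₁ = a₁ * b₁ * b₁⁻¹ by group]; exact (Q₁ Q g).mul_mem hxm ((Q₁ Q g).inv_mem hb₁.1)⟩
    exact (pair_ne _ _ pair0).1 (hwa.symm.trans (X.inter_wp haE.1 haE.2))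
  · have hQ₂ : Q.map (MulAut.conj m).toMonoidHom = Q.map (MulAut.conj (y * g)).toMonoidHom :=
      X.S.loc.map_conj_eq (by
        rw [← hw, e, show y * g * z * (y * g)⁻¹ = y * (g * z * g⁻¹) * y⁻¹ by group, X.sconj, hys])
    rw [hQ₂, mem_conjMap] at hxm
    have hyi : y⁻¹ * z = z * y⁻¹ := ((show Commute y z from hyz).inv_left).eq
    have hb2 : y⁻¹ * (a₁ * b₁) * y ∈ hB z Q g := by
      refine ⟨?_, mem_centralizer_one.2 (((show Commute y⁻¹ z from hyi).mul_left hxz).mul_left hyz).eq⟩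
      show _ ∈ Q₁ Q g
      rw [mem_conjMap]
      rwa [show g⁻¹ * (y⁻¹ * (a₁ * b₁) * y) * g = (y * g)⁻¹ * (a₁ * b₁) * (y * g) by group]
    set b₂ := y⁻¹ * (a₁ * b₁) * y
    obtain ⟨d, hd, hyb, hd1, -⟩ := X.third hy hπy hb2
    have hxe : a₁ * b₁ = b₂ * d := by rw [← hyb]; simp [b₂, mul_assoc]
    have hv : vb ρ b₂ = wp v0 := by
      apply sg_inj
      have h6 := congrFun hxρ f0
      rwa [hxe, X.S.rho_mul (X.B_comm hb2).1 (X.S.Qz hd.1), (X.S.ker d (X.S.Qz hd.1)).2 hd.1,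
        X.rho_B hb2] at h6
    have he := X.B_diff hb₁ hb2 (hwb.trans hv.symm)
    have hed : b₁⁻¹ * b₂ * d ∈ hA Q s := mul_mem (X.orth.inf_le he).1 hd
    have ha : a₁ = b₁ * (b₁⁻¹ * b₂ * d) * b₁⁻¹ := by
      calc a₁ = a₁ * b₁ * b₁⁻¹ := by group
        _ = b₂ * d * b₁⁻¹ := by rw [hxe]
        _ = _ := by group
    rw [X.conj_rule hed hb₁] at ha
    have hE := X.zb_mem (beta π ρ (b₁⁻¹ * b₂ * d) b₁) (beta π ρ (b₁⁻¹ * b₂ * d) b₁)
    have h7 : wp (π a₁) = wp (π d) := by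
      rw [ha, X.wp_mul (X.orth.inf_le hE).1 hed, X.inter_wp hE.1 hE.2, zero_add,
        X.wp_mul (X.orth.inf_le he).1 hd, X.inter_wp he.1 he.2, zero_add]
    rw [hwa, hd1, hv] at h7
    exact (pair_ne _ _ pair0).2.2 h7

theorem not_conj : ¬ IsConj z (a₁ * b₁) := by
  intro hc
  obtain ⟨k, hk⟩ := isConj_iff.1 hc
  obtain ⟨hxz, hxs, hx2, hxQ⟩ := X.base_facts' ha₁ hb₁ hwa hwb
  have cz : ∀ k : G, k⁻¹ * z * k * z = z * (k⁻¹ * z * k) ↔
      z * (k * z * k⁻¹) = k * z * k⁻¹ * z := fun k => by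
    constructor <;> intro h
    · calc z * (k * z * k⁻¹) = k * (k⁻¹ * z * k * z) * k⁻¹ := by group
        _ = k * (z * (k⁻¹ * z * k)) * k⁻¹ := by rw [h]
        _ = k * z * k⁻¹ * z := by group
    · calc k⁻¹ * z * k * z = k⁻¹ * (z * (k * z * k⁻¹)) * k := by group
        _ = k⁻¹ * (k * z * k⁻¹ * z) * k := by rw [h]
        _ = z * (k⁻¹ * z * k) := by group
  set t := k⁻¹ * z * k
  have htz : t * z = z * t := (cz k).2 (by rw [hk]; exact hxz.symm)
  have ht2 : t * t = 1 := by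
    rw [show t * t = k⁻¹ * (z * z) * k by simp [t, mul_assoc], X.S.loc.sq]; group
  have hxne : a₁ * b₁ ≠ z := fun e => hxQ (e ▸ X.S.loc.mem)
  have htQ : t ∉ Q := fun h => by
    have h1 := X.S.mem_swap (k := k) (m := 1) (by
      rw [mem_conjMap]; simpa [t, mul_assoc] using h) (by rw [hk]; simpa using hxne.symm)
    rw [hk, show Q.map (MulAut.conj (1 : G)).toMonoidHom = Q by ext; simp] at h1
    exact hxQ h1
  obtain ⟨h, hh, hres⟩ := X.invol_cases htz ht2 htQ ha₁ hb₁ hwa hwb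
  set k' := k * h⁻¹
  have hk' : k' * z * k'⁻¹ = a₁ * b₁ := by
    rw [← hk, show k' * z * k'⁻¹ = k * (h⁻¹ * z * h) * k⁻¹ by simp [k', mul_assoc],
      show h⁻¹ * z * h = z by rw [mul_assoc, ← hh]; group]
  have hkt : k' * (h * t * h⁻¹) * k'⁻¹ = z := by simp [k', t, mul_assoc]
  rcases hres with ⟨m, hmQ, hmne, htm⟩ | hpair
  · set w' := k' * (m * z * m⁻¹) * k'⁻¹
    have hw' : (k' * m) * z * (k' * m)⁻¹ = w' := by simp [w', mul_assoc]
    have h1 : w' ∈ Q.map (MulAut.conj k').toMonoidHom := conj_mem_conjMap hmQ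
    have h2 : z ∈ Q.map (MulAut.conj (k' * m)).toMonoidHom := by
      rw [← map_conj_conj, ← hkt]; exact conj_mem_conjMap htm
    have hne' : w' ≠ a₁ * b₁ := fun e => by
      refine hmne ?_
      rw [← hk'] at e
      exact mul_left_cancel (mul_right_cancel e)
    have hwz : z ≠ w' := fun e => htQ (by
      have e2 : h * t * h⁻¹ = m * z * m⁻¹ := by
        have := hkt.trans e
        exact mul_left_cancel (mul_right_cancel this)
      have := X.S.conj_mem (h := h⁻¹) ((show Commute h z from hh).inv_left).eq (e2 ▸ hmQ)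
      simpa [mul_assoc] using this)
    have h3 : w' ∈ Q := by
      have := X.S.mem_swap (k := k' * m) (m := 1) (by simpa using h2) (by rw [hw']; simpa using hwz)
      rwa [hw', show Q.map (MulAut.conj (1 : G)).toMonoidHom = Q by ext; simp] at this
    have h4 := X.S.mem_swap (k := k') (m := k' * m) (by rw [hw']; exact h1) (by rw [hw', hk']; exact hne')
    rw [hk'] at h4
    exact X.not_ZT ha₁ hb₁ hwa hwb ⟨k' * m, hw' ▸ h3, by rw [hw']; exact hwz.symm, h4⟩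
  · rw [hpair] at hkt
    -- the centralisers of the base element in the two extraspecial subgroups
    let N := Q ⊓ centralizer ({a₁ * b₁} : Set G)
    let Nx := Q.map (MulAut.conj k').toMonoidHom ⊓ centralizer ({z} : Set G)
    have hxC : ∀ y, y ∈ Q → (y * (a₁ * b₁) = a₁ * b₁ * y ↔
        bil (π y) e0 = 0 ∧ bil (inW (wp (π y))) (inW (wp a0)) = 0 ∧
          bil (inW (wp (π y))) (inW (wp v0)) = 0) := by
      intro y hy
      have hA' : bil (π y) e0 = 0 → y * (a₁ * b₁) * y⁻¹ = a₁ * b₁ *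
          (zb z (bil (inW (wp (π y))) (inW (wp a0)) + bil (inW (wp (π y))) (inW (wp v0))) *
            zb s (bil (inW (wp (π y))) (inW (wp v0)))) := by
        intro hy0
        have hyA : y ∈ hA Q s := X.mem_A.2 ⟨hy, hy0⟩
        have k1 : beta π ρ y b₁ = bil (inW (wp (π y))) (inW (wp v0)) := by rw [beta, hwb]
        have k2 := zb_comm (X.B_comm hb₁).1 (bil (inW (wp (π y))) (inW (wp a0)))
        rw [zb_add X.S.loc.sq, show y * (a₁ * b₁) * y⁻¹ = y * a₁ * y⁻¹ * (y * b₁ * y⁻¹) by group,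
          X.conj_A_by_A ha₁ hyA, X.conj_B_by_A hb₁ hyA, k1, hwa,
          mul_assoc a₁ (zb z _), ← mul_assoc (zb z _) b₁, ← k2]
        group
      constructor
      · intro hc
        have hf : ρ (a₁ * b₁) (π y) = π y := by
          rw [← X.S.conj _ hxz y hy, ← hc, mul_inv_cancel_right]
        rw [X.ab_pi hb₁ rfl ha₁.1, hwb] at hf
        have hy0 := sg_fix (wp v0) (pair_ne _ _ pair0).2.1 (π y) (Or.inl (by rw [hf, add_self]))
        have h8 := hA' hy0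
        rw [hc, mul_inv_cancel_right] at h8
        obtain ⟨e1, e2⟩ := X.zb_eq_one (mul_eq_left.1 h8.symm)
        rw [e2, add_zero] at e1
        exact ⟨hy0, e1, e2⟩
      · rintro ⟨hy0, e1, e2⟩
        have h8 := hA' hy0
        rw [e1, e2, add_zero, zb_zero, zb_zero, one_mul, mul_one] at h8
        exact mul_inv_eq_iff_eq_mul.1 h8
    have hlift : ∀ w : W, bil (inW w) (inW (wp a0)) = 0 → bil (inW w) (inW (wp v0)) = 0 →
        ∃ y ∈ N, bil (π y) e0 = 0 ∧ wp (π y) = w := by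
      intro w h1 h2
      obtain ⟨a, ha, rfl⟩ := X.exists_A w
      exact ⟨a, ⟨ha.1, mem_centralizer_one.2 ((hxC a ha.1).2 ⟨(X.mem_A.1 ha).2, h1, h2⟩)⟩,
        (X.mem_A.1 ha).2, rfl⟩
    have hxk : k' * (a₁ * b₁) * k'⁻¹ = z := hkt
    have hkN : ∀ y ∈ N, k' * y * k'⁻¹ ∈ Nx := fun y hy => ⟨conj_mem_conjMap hy.1,
      mem_centralizer_one.2 (by
        rw [← hxk]
        calc k' * y * k'⁻¹ * (k' * (a₁ * b₁) * k'⁻¹) = k' * (y * (a₁ * b₁)) * k'⁻¹ := by group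
          _ = k' * (a₁ * b₁ * y) * k'⁻¹ := by rw [mem_centralizer_one.1 hy.2]
          _ = _ := by group)⟩
    have hlocx : XSLocal (Q.map (MulAut.conj k').toMonoidHom) (a₁ * b₁) := hk' ▸ X.S.loc.conj k'
    have hzQx : z ∉ Q.map (MulAut.conj k').toMonoidHom := fun h => by
      rw [← hxk] at h
      exact hxQ (by simpa [mul_assoc] using mem_conjMap.1 h)
    -- a common element would give a contradiction
    have hD : ∀ d, d ∈ N → d ∈ Nx → d = 1 := by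
      intro d hdN hdx
      by_contra hd1
      have hnorm : ∀ y ∈ N, ∀ d, d ∈ Nx → y * d * y⁻¹ ∈ Nx := fun y hy d hd =>
        ⟨LargeExtra.conj_mem (hlocx.norm (mem_centralizer_one.2
          (mem_centralizer_one.1 hy.2))) hd.1, mem_centralizer_one.2
          (((show Commute y z from X.S.Qz hy.1).mul_left (mem_centralizer_one.1 hd.2 : Commute d z)).mul_left
            (show Commute y z from X.S.Qz hy.1).inv_left).eq⟩
      obtain ⟨hd0, he1, he2⟩ := (hxC d hdN.1).1 (mem_centralizer_one.1 hdN.2)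
      have hwd : wp (π d) = 0 := by
        by_contra hne
        obtain ⟨u, hu1, hu2, hu3⟩ : ∃ u, bil (inW u) (inW (wp a0)) = 0 ∧
            bil (inW u) (inW (wp v0)) = 0 ∧ bil (inW (wp (π d))) (inW u) = 1 := by
          by_contra hcon
          push Not at hcon
          exact hne (plus_nondeg _ he1 he2 fun u h1 h2 => (F_cases _).resolve_right (hcon u h1 h2))
        obtain ⟨y, hyN, hy0, rfl⟩ := hlift u hu1 hu2
        refine hzQx ?_
        have h9 : y * d * y⁻¹ * d⁻¹ ∈ Q.map (MulAut.conj k').toMonoidHom :=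
          mul_mem (hnorm y hyN d hdx).1 (inv_mem hdx.1)
        rw [X.S.rule hyN.1 hdN.1, bil_wp _ _ hy0 hd0, bil_comm, hu3, zb_one,
          mul_assoc (d * y) z y⁻¹, ((show Commute y z from X.S.Qz hyN.1).inv_left.symm).eq] at h9
        have e : d * y * (y⁻¹ * z) * d⁻¹ = z := by
          calc d * y * (y⁻¹ * z) * d⁻¹ = d * z * d⁻¹ := by group
            _ = z := by rw [X.S.Qz hdN.1, mul_inv_cancel_right]
        rwa [e] at h9
      have hdE : d ∈ Q ⊓ Q₁ Q g := by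
        have hdA := X.mem_A.2 ⟨hdN.1, hd0⟩
        have := X.A_diff (one_mem _) hdA (by rw [hwd, X.S.pi_one]; rfl)
        rwa [inv_one, one_mul] at this
      obtain ⟨y, hy, hπy, hys⟩ := X.exists_y0
      have contra : ∀ m : G, m * z * m⁻¹ = d → d ≠ z → False := fun m hm hdz => by
        have h10 : d ≠ a₁ * b₁ := fun e => hxQ (e ▸ hdN.1)
        have h11 := X.S.mem_swap (k := k') (m := m) (by rw [hm]; exact hdx.1) (by rw [hm, hk']; exact h10)
        rw [hk'] at h11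
        exact X.not_ZT ha₁ hb₁ hwa hwb ⟨m, hm ▸ hdN.1, by rw [hm]; exact hdz, h11⟩
      rcases X.mem_inter.1 hdE with rfl | rfl | rfl | rfl
      · exact hd1 rfl
      · exact hzQx hdx.1
      · exact contra g X.sconj X.sne
      · refine contra (y * g) ?_ (fun e => X.sne_one (mul_eq_right.1 e))
        rw [show y * g * z * (y * g)⁻¹ = y * (g * z * g⁻¹) * y⁻¹ by group, X.sconj, hys]
    have hcomm : ∀ n ∈ N, ∀ c ∈ Nx, c * n = n * c := by
      intro n hn c hc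
      have hcz := mem_centralizer_one.1 hc.2
      have hnx : n * (a₁ * b₁) = a₁ * b₁ * n := mem_centralizer_one.1 hn.2
      have hcx : c * (a₁ * b₁) = a₁ * b₁ * c := hlocx.comm hc.1
      have h1 : c * n * c⁻¹ * n⁻¹ ∈ N := by
        refine mul_mem (⟨X.S.conj_mem hcz hn.1, ?_⟩ : c * n * c⁻¹ ∈ N) (inv_mem hn)
        exact mem_centralizer_one.2 (((show Commute c (a₁ * b₁) from hcx).mul_left hnx).mul_left
          (show Commute c (a₁ * b₁) from hcx).inv_left).eq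
      have h2 : c * n * c⁻¹ * n⁻¹ ∈ Nx := by
        rw [show c * n * c⁻¹ * n⁻¹ = c * (n * c⁻¹ * n⁻¹) by group]
        refine mul_mem hc ⟨LargeExtra.conj_mem (hlocx.norm (mem_centralizer_one.2 hnx)) (inv_mem hc.1),
          mem_centralizer_one.2 (((show Commute n z from X.S.Qz hn.1).mul_left
            (show Commute c z from hcz).inv_left).mul_left (show Commute n z from X.S.Qz hn.1).inv_left).eq⟩
      exact mul_inv_eq_iff_eq_mul.1 (mul_inv_eq_one.1 (hD _ h1 h2))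
    have hsN : s ∈ N := ⟨X.sQ, mem_centralizer_one.2 hxs.symm⟩
    have hrad : ∀ c ∈ Nx, c ∈ rad Q z (Q₁ Q g) s := by
      intro c hc
      have hcz := mem_centralizer_one.1 hc.2
      have hcs : c * s = s * c := hcomm s hsN c hc
      have hcx : c * (a₁ * b₁) = a₁ * b₁ * c := hlocx.comm hc.1
      obtain ⟨hca, hcw⟩ := X.conj_A hcz hcs ha₁
      obtain ⟨hcb, hcv⟩ := X.conj_B hcz hcs hb₁
      have hxe : c * a₁ * c⁻¹ * (c * b₁ * c⁻¹) = a₁ * b₁ := by
        calc c * a₁ * c⁻¹ * (c * b₁ * c⁻¹) = c * (a₁ * b₁) * c⁻¹ := by group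
          _ = a₁ * b₁ := by rw [hcx, mul_inv_cancel_right]
      have hv : vb ρ (c * b₁ * c⁻¹) = wp v0 := by
        apply sg_inj
        have h6 := congrFun (X.ab_pi hcb hxe.symm hca.1) f0
        rw [X.ab_pi hb₁ rfl ha₁.1, hwb] at h6
        exact h6.symm
      have hb' := X.B_diff hcb hb₁ (hv.trans hwb.symm)
      have ha' : a₁⁻¹ * (c * a₁ * c⁻¹) = b₁ * (c * b₁ * c⁻¹)⁻¹ := by
        calc a₁⁻¹ * (c * a₁ * c⁻¹) =
            a₁⁻¹ * (c * a₁ * c⁻¹ * (c * b₁ * c⁻¹)) * (c * b₁ * c⁻¹)⁻¹ := by group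
          _ = _ := by rw [hxe]; group
      have hE' : a₁⁻¹ * (c * a₁ * c⁻¹) ∈ Q ⊓ Q₁ Q g :=
        ⟨Q.mul_mem (Q.inv_mem ha₁.1) hca.1, ha' ▸ (Q₁ Q g).mul_mem hb₁.1 ((Q₁ Q g).inv_mem hcb.1)⟩
      have ha : wp (π (c * a₁ * c⁻¹)) = wp a0 := by
        have := X.inter_wp hE'.1 hE'.2
        rw [X.wp_mul (inv_mem ha₁) hca, X.S.pi_inv ha₁.1, hwa] at this
        calc wp (π (c * a₁ * c⁻¹)) = wp a0 + (wp a0 + wp (π (c * a₁ * c⁻¹))) := by
              rw [← add_assoc, w_add_self, zero_add]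
          _ = wp a0 := by rw [this, add_zero]
      rw [hcw, hwa] at ha
      rw [hcv, hwb] at hv
      have he0 := X.rho_fix hcz hcs
      have hperp : inW (wp a0) = a0 ∧ inW (wp v0) = v0 ∧ bil a0 e0 = 0 ∧ bil v0 e0 = 0 := by
        decide +kernel
      rw [hperp.1] at ha
      rw [hperp.2.1] at hv
      have hpe : ∀ u : V, bil u e0 = 0 → ∀ u₀ : V, bil u₀ e0 = 0 → wp u = wp u₀ →
          u + u₀ = 0 ∨ u + u₀ = e0 := by decide +kernel
      have hb0 : ∀ x : V, bil x e0 = 0 → bil (ρ c x) e0 = 0 := fun x hx => by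
        conv_lhs => rw [← he0]
        rw [X.S.rho_bil hcz, hx]
      have hreg := regular (X.S.om c hcz) he0 (hpe _ (hb0 _ hperp.2.2.1) _ hperp.2.2.1 ha)
        (hpe _ (hb0 _ hperp.2.2.2) _ hperp.2.2.2 hv)
      have hsg := X.S.rho_rad hcz he0 hreg
      obtain ⟨b, hb, hvb⟩ := X.exists_B (wp (ρ c f0))
      have hbi : b⁻¹ * z = z * b⁻¹ := ((show Commute b z from (X.B_comm hb).1).inv_left).eq
      have hbis : b⁻¹ * s = s * b⁻¹ := ((show Commute b s from (X.B_comm hb).2).inv_left).eq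
      have hρb : ∀ x, ρ b⁻¹ x = ρ b x := fun x => by
        refine X.S.rho_inj (X.B_comm hb).1 ?_
        rw [← X.S.rho_mul (X.B_comm hb).1 hbi, mul_inv_cancel, X.S.rho_one, X.rho_B hb, X.rho_B hb,
          sg_add_sg, w_add_self, (sg_zero x).2]
      have hq : c * b⁻¹ ∈ Q := (X.S.ker _ ((show Commute c z from hcz).mul_left hbi).eq).1 fun x => by
        rw [X.S.rho_mul hcz hbi, hρb, hsg, X.rho_B hb, hvb, sg_add_sg, w_add_self, (sg_zero x).2]
      rw [show c = c * b⁻¹ * b by group]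
      exact mul_mem (Subgroup.mem_sup_right (show c * b⁻¹ ∈ Q ⊓ centralizer ({s} : Set G) from
        ⟨hq, mem_centralizer_one.2 ((show Commute c s from hcs).mul_left hbis).eq⟩))
        (Subgroup.mem_sup_left hb)
    obtain ⟨w₁, w₂, h1, h2, h3, h4, h5⟩ := plus_pair
    obtain ⟨y₁, hy₁, hy₁0, rfl⟩ := hlift w₁ h1 h2
    obtain ⟨y₂, hy₂, hy₂0, rfl⟩ := hlift w₂ h3 h4
    have h6 := (X.orth.rad_comm (hrad _ (hkN y₁ hy₁)) (hrad _ (hkN y₂ hy₂))).1
    have h7 : k' * y₁ * k'⁻¹ * (k' * y₂ * k'⁻¹) * (k' * y₁ * k'⁻¹)⁻¹ * (k' * y₂ * k'⁻¹)⁻¹ =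
        a₁ * b₁ := by
      rw [show k' * y₁ * k'⁻¹ * (k' * y₂ * k'⁻¹) * (k' * y₁ * k'⁻¹)⁻¹ * (k' * y₂ * k'⁻¹)⁻¹ =
        k' * (y₁ * y₂ * y₁⁻¹ * y₂⁻¹) * k'⁻¹ by group, X.S.rule hy₁.1 hy₂.1,
        bil_wp _ _ hy₁0 hy₂0, h5, zb_one, ← hk']
      congr 2
      calc y₂ * y₁ * z * y₁⁻¹ * y₂⁻¹ = y₂ * (z * y₁ * y₁⁻¹) * y₂⁻¹ := by
            rw [← X.S.Qz hy₁.1]; group
        _ = z := by rw [mul_inv_cancel_right, X.S.Qz hy₂.1, mul_inv_cancel_right]
    rw [h7] at h6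
    exact hxQ h6.1

end Base

/-- Exactly two classes of involutions. -/
theorem two_classes : ∃ a b : G, orderOf a = 2 ∧ orderOf b = 2 ∧ ¬ IsConj a b ∧
    ∀ x : G, orderOf x = 2 → IsConj x a ∨ IsConj x b := by
  obtain ⟨a₁, ha₁, hwa⟩ := X.exists_A (wp a0)
  obtain ⟨b₁, hb₁, hwb⟩ := X.exists_B (wp v0)
  obtain ⟨hxz, -, hx2, hxQ⟩ := X.base_facts' ha₁ hb₁ hwa hwb
  refine ⟨z, a₁ * b₁, X.S.loc.orderOf_eq,
    orderOf_eq_prime (by rw [pow_two, hx2]) (fun e => hxQ (e ▸ one_mem _)),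
    X.not_conj ha₁ hb₁ hwa hwb, fun x hx => ?_⟩
  have hx2' : x * x = 1 := by rw [← pow_two, ← hx, pow_orderOf_eq_one]
  obtain ⟨k, hk⟩ := X.S.center_sylow x hx2'
  set t := k * x * k⁻¹
  have ht : t * t = 1 := by
    rw [show t * t = k * (x * x) * k⁻¹ by simp [t, mul_assoc], hx2']; group
  have hxt : IsConj x t := isConj_iff.2 ⟨k, rfl⟩
  have ht1 : t ≠ 1 := fun e => by
    have : x = 1 := by simpa [t] using e
    rw [this, orderOf_one] at hx; omega
  by_cases htQ : t ∈ Q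
  · exact Or.inl (hxt.trans (X.Q_invol htQ ht ht1).symm)
  obtain ⟨h, hh, hres⟩ := X.invol_cases hk ht htQ ha₁ hb₁ hwa hwb
  have hxh : IsConj x (h * t * h⁻¹) := hxt.trans (isConj_iff.2 ⟨h, rfl⟩)
  rcases hres with ⟨m, hmQ, hmne, htm⟩ | e
  · left
    obtain ⟨u, hu, hu'⟩ := htm
    have hu2 : u * u = 1 := (MulAut.conj m).injective (by
      rw [map_mul, map_one]
      show MulAut.conj m u * MulAut.conj m u = 1
      rw [show MulAut.conj m u = h * t * h⁻¹ from hu']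
      rw [show h * t * h⁻¹ * (h * t * h⁻¹) = h * (t * t) * h⁻¹ by group, ht]; group)
    have hu1 : u ≠ 1 := fun e => ht1 (by
      have : h * t * h⁻¹ = 1 := by rw [← hu', e]; exact map_one _
      simpa using this)
    exact hxh.trans ((X.Q_invol hu hu2 hu1).trans (isConj_iff.2 ⟨m, hu'⟩)).symm
  · exact Or.inr (e ▸ hxh)

end Fr

end Cfsg.Agent.SuzT
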