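import Cfsg.Agent.Lib.SuzT.Setup
import Cfsg.Agent.S5432

/-!
From the standard hypotheses to the setting with coordinates.
-/

set_option autoImplicit false
set_option linter.style.haveILetI false
set_option linter.unusedSectionVars false
set_option maxRecDepth 20000
set_option synthInstance.maxSize 4000
set_option synthInstance.maxHeartbeats 400000

open scoped Matrix

namespace Cfsg.Agent.SuzT

open Subgroup LargeExtra

local notation "F" => ZMod 2

variable {G : Type*} [Group G] [Finite G]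

section Eta

variable {H : Type*} [Group H] [Finite H] {Q : Subgroup H} [Q.Normal]
  {ι : Type} [Fintype ι] [DecidableEq ι] {β : OuterAut.Cocycle ι} (Qf : (ι → F) → F)
  (hQf : ∀ v, Qf v = β v v) (hM : Cfsg.IsExtraspecial 2 (OuterAut.M β)) (T : Q ≃* OuterAut.M β)

/-- The action of a group on the quotient of a normal extraspecial subgroup by its centre. -/
noncomputable def eta : H →* Cfsg.isometryGroup F Qf :=
  (OuterAut.psi Qf hM hQf).comp ((MulAut.congr T).toMonoidHom.comp MulAut.conjNormal)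

theorem eta_apply (c : H) (x : Q) :
    ((eta Qf hQf hM T c : GL ι F) : Matrix ι ι F) *ᵥ (T x).v = (T (MulAut.conjNormal c x)).v := by
  show OuterAut.mat hM (MulAut.congr T (MulAut.conjNormal c)) *ᵥ (T x).v = _
  rw [OuterAut.mat_mulVec]
  show (T (MulAut.conjNormal c (T.symm (T x)))).v = _
  rw [MulEquiv.symm_apply_apply]

theorem eta_ker (hC : Subgroup.centralizer (Q : Set H) ≤ Q) : (eta Qf hQf hM T).ker = Q := by
  ext c
  have hker : c ∈ (eta Qf hQf hM T).ker ↔
      MulAut.congr T (MulAut.conjNormal c) ∈ Cfsg.Inn (OuterAut.M β) := by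
    rw [← OuterAut.psi_ker Qf hM hQf, MonoidHom.mem_ker, MonoidHom.mem_ker]
    exact Iff.rfl
  rw [hker]
  constructor
  · rintro ⟨m, hm⟩
    have h1 : ∀ x : Q, MulAut.conjNormal c x = T.symm m * x * (T.symm m)⁻¹ := by
      intro x
      have h2 := congrArg (fun f : MulAut (OuterAut.M β) => T.symm (f (T x))) hm
      simp only [MulAut.conj_apply, map_mul, map_inv, MulEquiv.symm_apply_apply] at h2
      rw [h2]
      show _ = T.symm (T (MulAut.conjNormal c (T.symm (T x))))
      rw [MulEquiv.symm_apply_apply, MulEquiv.symm_apply_apply]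
    have h3 : ((T.symm m : Q) : H)⁻¹ * c ∈ Subgroup.centralizer (Q : Set H) := by
      refine Subgroup.mem_centralizer_iff.2 fun x hx => ?_
      have h4 : c * x * c⁻¹ = ((T.symm m : Q) : H) * x * ((T.symm m : Q) : H)⁻¹ :=
        congrArg Subtype.val (h1 ⟨x, hx⟩)
      calc x * (((T.symm m : Q) : H)⁻¹ * c)
          = ((T.symm m : Q) : H)⁻¹ * (((T.symm m : Q) : H) * x * ((T.symm m : Q) : H)⁻¹) * c := by group
        _ = ((T.symm m : Q) : H)⁻¹ * (c * x * c⁻¹) * c := by rw [h4]
        _ = ((T.symm m : Q) : H)⁻¹ * c * x := by group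
    have := Q.mul_mem (T.symm m).2 (hC h3)
    rwa [mul_inv_cancel_left] at this
  · intro hc
    refine ⟨T ⟨c, hc⟩, MulEquiv.ext fun y => ?_⟩
    show T ⟨c, hc⟩ * y * (T ⟨c, hc⟩)⁻¹ = T (MulAut.conjNormal c (T.symm y))
    obtain ⟨x, rfl⟩ := T.surjective y
    rw [MulEquiv.symm_apply_apply, ← map_inv, ← map_mul, ← map_mul]
    congr 1

theorem eta_card (hC : Subgroup.centralizer (Q : Set H) ≤ Q) :
    Nat.card (eta Qf hQf hM T).range = Nat.card (H ⧸ Q) := by
  rw [← Subgroup.index_ker, eta_ker Qf hQf hM T hC, Subgroup.index_eq_card]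

end Eta

theorem commutator_le_of_index_two {H : Type*} [Group H] {K : Subgroup H} (hK : K.index = 2) :
    commutator H ≤ K := by
  rw [commutator_def, Subgroup.commutator_le]
  intro a _ b _
  rw [commutatorElement_def]
  have h := @Subgroup.mul_mem_iff_of_index_two _ _ K hK
  have hi : ∀ a : H, a⁻¹ ∈ K ↔ a ∈ K := fun a => inv_mem_iff
  rw [h, h, h, hi, hi]
  tauto

theorem card_O6plus : Nat.card ↥(Cfsg.isometryGroup F (Cfsg.quadFormPlus 3 F)) = 40320 := by
  rw [Orth.card_isometryGroup (Orth.qPlus F 3) (Orth.coe_qPlus 3), Orth.card_oGroup_qPlus 2]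
  simp [Finset.prod_range_succ]

/-- The setting attached to the standard hypotheses. -/
theorem exists_su {z : G} (hz : orderOf z = 2)
    (Q : Subgroup (Subgroup.centralizer ({z} : Set G))) [Q.Normal]
    (hF : Cfsg.generalizedFittingSubgroup (Subgroup.centralizer ({z} : Set G)) = Q)
    (hQ : Cfsg.IsExtraspecial 2 Q) (hcard : Nat.card Q = 2 ^ 7)
    (e : (Subgroup.centralizer ({z} : Set G)) ⧸ Q ≃* Cfsg.Omega F (Cfsg.quadFormMinus 2 F 1 1)) :
    ∃ π ρ, Su z (Q.map (Subgroup.centralizer ({z} : Set G)).subtype) π ρ := by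
  classical
  haveI : Fact (Nat.Prime 2) := ⟨Nat.prime_two⟩
  have loc : XSLocal (Q.map (Subgroup.centralizer ({z} : Set G)).subtype) z := XSLocal.of_fstar hz (by rw [hF])
    (Qd.isExtraspecial_congr (Q.equivMapOfInjective (Subgroup.centralizer ({z} : Set G)).subtype (Subgroup.centralizer ({z} : Set G)).subtype_injective).symm hQ)
  have hC : Subgroup.centralizer (Q : Set (Subgroup.centralizer ({z} : Set G))) ≤ Q := by
    intro c hc
    have h1 : (c : G) ∈ Subgroup.centralizer ((Q.map (Subgroup.centralizer ({z} : Set G)).subtype) : Set G) := by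
      refine Subgroup.mem_centralizer_iff.2 ?_
      rintro _ ⟨x, hx, rfl⟩
      exact congrArg Subtype.val (Subgroup.mem_centralizer_iff.1 hc x hx)
    rcases loc.mem_zpowers_iff.1 (loc.cent h1) with h | h
    · rw [show c = 1 from Subtype.ext h]; exact one_mem _
    · obtain ⟨x, hx, hxz⟩ := loc.mem
      rw [show c = x from Subtype.ext (h.trans hxz.symm)]; exact hx
  have hCQ : Nat.card ((Subgroup.centralizer ({z} : Set G)) ⧸ Q) = 25920 := by rw [Nat.card_congr e.toEquiv]; exact card_Om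
  -- the type of `Q`
  obtain ⟨zQ, x⟩ := XSUnique.exists_xs hQ
  obtain ⟨z₀, x₀⟩ := XSUnique.exists_xs (Models.isExtraspecial (e := (0 : F)) (m := 2))
  obtain ⟨z₁, x₁⟩ := XSUnique.exists_xs (Models.isExtraspecial (e := (1 : F)) (m := 2))
  have hne : ¬ Nonempty (Models.E (0 : F) 2 ≃* Models.E (1 : F) 2) := by
    rintro ⟨e⟩
    obtain ⟨h1, h2⟩ := S5432.elementary_map e (Models.sing_elementary (e := (0 : F)) (m := 2))
    have h3 := Models.card_le_minus _ h1
    rw [h2, Models.card_sing_zero] at h3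
    norm_num at h3
  have hminus : Nonempty (Q ≃* Models.E (1 : F) 2) := by
    rcases XSUnique.two_classes _ Q (Models.E (0 : F) 2) (Models.E (1 : F) 2) zQ z₀ z₁ x x₀ x₁ rfl
        (Models.natCard.trans hcard.symm) (Models.natCard.trans hcard.symm) with ⟨φ, -⟩ | ⟨φ, -⟩ | ⟨φ, -⟩
    · exfalso
      let T := S5432.transport (S5432.betaP 2) (S5432.coordP 2) (S5432.coordP_beta 2)
      have hd := Subgroup.card_subgroup_dvd_card
        (eta (Q := Q) (Cfsg.quadFormPlus 3 F) (β := S5432.betaP 2) (fun v => rfl)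
          (S5432.extraspecial_model _ T) (φ.trans T)).range
      have h1 := (eta_card (Q := Q) (Cfsg.quadFormPlus 3 F) (β := S5432.betaP 2) (fun v => rfl)
          (S5432.extraspecial_model _ T) (φ.trans T) hC).trans hCQ
      have h2 : (25920 : ℕ) ∣ 40320 := by
        refine Eq.subst (motive := fun n => n ∣ 40320) h1 ?_
        refine Eq.subst (motive := fun n => _ ∣ n) card_O6plus ?_
        exact hd
      norm_num at h2
    · exact absurd ⟨φ⟩ hne
    · exact ⟨φ⟩
  obtain ⟨φ⟩ := hminus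
  let T₁ := S5432.transport (S5432.betaM 2) (S5432.coordM 2) (S5432.coordM_beta 2)
  let T := φ.trans T₁
  have hQf : ∀ v, q6 v = S5432.betaM 2 v v := fun v => by
    show _ = (∑ i, v (.inl (.inl i)) * v (.inl (.inr i))) +
      (v (.inr 0) * v (.inr 1) + (v (.inr 0) * v (.inr 0) + v (.inr 1) * v (.inr 1)))
    simp only [q6, Cfsg.quadFormMinus]
    ring
  have hM := S5432.extraspecial_model _ T₁
  let η := eta (Q := Q) q6 hQf hM T
  have hrange : η.range = Om := by
    have hr : Nat.card η.range = 25920 := (eta_card _ _ _ _ hC).trans hCQ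
    have hi : η.range.index = 2 := by
      have h := η.range.card_mul_index
      rw [hr, card_O6] at h
      omega
    exact (Subgroup.eq_of_le_of_card_ge (commutator_le_of_index_two hi)
      (by rw [hr]; exact card_Om.ge)).symm
  have hker : η.ker = Q := eta_ker _ _ _ _ hC
  have hTz : ∀ hzQ : (⟨z, mem_centralizer_one.2 rfl⟩ : (Subgroup.centralizer ({z} : Set G))) ∈ Q,
      T ⟨⟨z, mem_centralizer_one.2 rfl⟩, hzQ⟩ = ⟨0, 1⟩ := by
    intro hzQ
    have hc : T ⟨⟨z, mem_centralizer_one.2 rfl⟩, hzQ⟩ ∈ Subgroup.center (OuterAut.M (S5432.betaM 2)) := by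
      refine Subgroup.mem_center_iff.2 fun y => ?_
      obtain ⟨w, rfl⟩ := T.surjective y
      rw [← map_mul, ← map_mul]
      congr 1
      exact Subtype.ext (Subtype.ext (loc.comm ⟨w.1, w.2, rfl⟩))
    have hv := (OuterAut.mem_center_iff hM _).1 hc
    have hne' : T ⟨⟨z, mem_centralizer_one.2 rfl⟩, hzQ⟩ ≠ 1 := fun h => by
      have := T.injective (h.trans (map_one T).symm)
      exact loc.ne_one (congrArg (fun w : Q => ((w : (Subgroup.centralizer ({z} : Set G))) : G)) this)
    refine OuterAut.M.ext hv ((F_cases _).resolve_left fun h => hne' (OuterAut.M.ext hv h))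
  let π : G → V := fun g => if h : ∃ w : Q, ((w : (Subgroup.centralizer ({z} : Set G))) : G) = g then σ.symm (T h.choose).v else 0
  let ρ : G → V → V := fun h => if hh : h ∈ (Subgroup.centralizer ({z} : Set G)) then app (η ⟨h, hh⟩) else id
  have hπ : ∀ w : Q, π ((w : (Subgroup.centralizer ({z} : Set G))) : G) = σ.symm (T w).v := by
    intro w
    have h : ∃ u : Q, ((u : (Subgroup.centralizer ({z} : Set G))) : G) = ((w : (Subgroup.centralizer ({z} : Set G))) : G) := ⟨w, rfl⟩
    simp only [π, dif_pos h]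
    rw [Subtype.ext (Subtype.ext h.choose_spec) (a2 := w)]
  have hρ : ∀ c : (Subgroup.centralizer ({z} : Set G)), ρ (c : G) = app (η c) := fun c => by simp only [ρ, dif_pos c.2]
  have hmem : ∀ {g : G}, g ∈ (Q.map (Subgroup.centralizer ({z} : Set G)).subtype) → ∃ w : Q, ((w : (Subgroup.centralizer ({z} : Set G))) : G) = g := by
    rintro g ⟨w, hw, rfl⟩
    exact ⟨⟨w, hw⟩, rfl⟩
  obtain ⟨zq, hzq⟩ := hmem loc.mem
  have hzq' : zq = ⟨⟨z, mem_centralizer_one.2 rfl⟩,
      (Subtype.ext hzq : (zq : (Subgroup.centralizer ({z} : Set G))) = ⟨z, mem_centralizer_one.2 rfl⟩) ▸ zq.2⟩ :=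
    Subtype.ext (Subtype.ext hzq)
  have hTzq : T zq = ⟨0, 1⟩ := by rw [hzq']; exact hTz _
  refine ⟨π, ρ, loc, ?_, ?_, ?_, ?_, ?_, ?_, ?_, ?_, ?_⟩
  · rw [card_map_of_injective (Subgroup.centralizer ({z} : Set G)).subtype_injective, hcard]; norm_num
  · intro a ha b hb
    obtain ⟨a, rfl⟩ := hmem ha
    obtain ⟨b, rfl⟩ := hmem hb
    rw [show ((a : (Subgroup.centralizer ({z} : Set G))) : G) * ((b : (Subgroup.centralizer ({z} : Set G))) : G) = (((a * b : Q) : (Subgroup.centralizer ({z} : Set G))) : G) from rfl, hπ, hπ, hπ, map_mul,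
      OuterAut.mul_v, map_add]
  · intro a ha
    obtain ⟨a, rfl⟩ := hmem ha
    rw [hπ, map_eq_zero_iff _ σ.symm.injective]
    constructor
    · intro h
      rcases F_cases (T a).c with hc | hc
      · left
        rw [show a = 1 from T.injective ((OuterAut.M.ext h hc).trans (map_one T).symm)]
        rfl
      · right
        rw [show a = zq from T.injective (((OuterAut.M.ext h hc : T a = ⟨0, 1⟩)).trans hTzq.symm)]
        exact hzq
    · rintro (h | h)
      · rw [show a = 1 from Subtype.ext (Subtype.ext h), map_one]; rfl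
      · rw [show a = zq from Subtype.ext (Subtype.ext (h.trans hzq.symm)), hTzq]
  · intro v
    obtain ⟨w, hw⟩ := T.surjective ⟨σ v, 0⟩
    exact ⟨_, ⟨w.1, w.2, rfl⟩, (hπ w).trans (by rw [hw, AddEquiv.symm_apply_apply])⟩
  · intro a ha
    obtain ⟨a, rfl⟩ := hmem ha
    rw [hπ, ← q_σ, AddEquiv.apply_symm_apply, hQf]
    have hsq : T (a * a) = ⟨0, S5432.betaM 2 (T a).v (T a).v⟩ := by
      rw [map_mul]
      refine OuterAut.M.ext (OuterAut.vec_add_self _) ?_
      rw [OuterAut.mul_c, OuterAut.add_self, zero_add]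
    rcases F_cases (S5432.betaM 2 (T a).v (T a).v) with hc | hc <;> rw [hc] at hsq ⊢
    · rw [zb_zero]
      exact congrArg (fun w : Q => ((w : (Subgroup.centralizer ({z} : Set G))) : G)) (T.injective (hsq.trans (map_one T).symm))
    · rw [zb_one]
      exact (congrArg (fun w : Q => ((w : (Subgroup.centralizer ({z} : Set G))) : G))
        (T.injective (hsq.trans hTzq.symm))).trans hzq
  · intro h hh a ha
    obtain ⟨a, rfl⟩ := hmem ha
    have hhC : h ∈ (Subgroup.centralizer ({z} : Set G)) := mem_centralizer_one.2 hh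
    rw [show h * ((a : (Subgroup.centralizer ({z} : Set G))) : G) * h⁻¹ = (((MulAut.conjNormal (⟨h, hhC⟩ : (Subgroup.centralizer ({z} : Set G))) a : Q) : (Subgroup.centralizer ({z} : Set G))) : G) from rfl,
      hπ, hπ, hρ ⟨h, hhC⟩]
    show _ = σ.symm (mat6 _ *ᵥ σ _)
    rw [AddEquiv.apply_symm_apply]
    exact congrArg σ.symm (eta_apply q6 hQf hM T ⟨h, hhC⟩ a).symm
  · intro h hh
    have hhC : h ∈ (Subgroup.centralizer ({z} : Set G)) := mem_centralizer_one.2 hh
    rw [hρ ⟨h, hhC⟩]
    constructor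
    · intro hv
      have : η ⟨h, hhC⟩ = 1 := app_inj (funext fun v => (hv v).trans (app_one v).symm)
      exact ⟨⟨h, hhC⟩, hker ▸ this, rfl⟩
    · intro hm v
      obtain ⟨w, hw, hwh⟩ := hm
      have : η ⟨h, hhC⟩ = 1 := by
        rw [show (⟨h, hhC⟩ : (Subgroup.centralizer ({z} : Set G))) = w from Subtype.ext hwh.symm]
        exact MonoidHom.mem_ker.1 (hker.symm ▸ hw)
      rw [this, app_one]
  · intro h hh
    exact ⟨η ⟨h, mem_centralizer_one.2 hh⟩, hrange ▸ ⟨_, rfl⟩,
      (hρ ⟨h, mem_centralizer_one.2 hh⟩).symm⟩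
  · rintro f ⟨g, hg, rfl⟩
    rw [← hrange] at hg
    obtain ⟨c, rfl⟩ := hg
    exact ⟨c, mem_centralizer_one.1 c.2, hρ c⟩

end Cfsg.Agent.SuzT
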