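import Cfsg.Agent.Lib.SuzT.Setup

/-!
The two halves of the radical attached to two orthogonal conjugates of the central involution.
-/

set_option autoImplicit false
set_option linter.style.haveILetI false
set_option linter.unusedSectionVars false
set_option maxRecDepth 20000
set_option synthInstance.maxSize 4000
set_option synthInstance.maxHeartbeats 400000

namespace Cfsg.Agent.SuzT

open Subgroup LargeExtra

local notation "F" => ZMod 2

variable {G : Type*} [Group G] [Finite G] {z : G} {Q : Subgroup G} {π : G → V} {ρ : G → V → V}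
  {s g : G}

/-- A conjugate of `z` in `Q` at the base point. -/
structure Fr (z : G) (Q : Subgroup G) (π : G → V) (ρ : G → V → V) (s g : G) : Prop where
  S : Su z Q π ρ
  sconj : g * z * g⁻¹ = s
  sQ : s ∈ Q
  se : π s = e0

/-- The extraspecial subgroup at `s`. -/
abbrev Q₁ (Q : Subgroup G) (g : G) : Subgroup G := Q.map (MulAut.conj g).toMonoidHom

/-- The left half. -/
abbrev hA (Q : Subgroup G) (s : G) : Subgroup G := Q ⊓ centralizer ({s} : Set G)

/-- The right half. -/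
abbrev hB (z : G) (Q : Subgroup G) (g : G) : Subgroup G := Q₁ Q g ⊓ centralizer ({z} : Set G)

/-- The `W`-coordinate of an element of the right half. -/
abbrev vb (ρ : G → V → V) (b : G) : W := wp (ρ b f0)

theorem exists_frame (S : Su z Q π ρ) (h : ∃ g : G, g * z * g⁻¹ ∈ Q ∧ g * z * g⁻¹ ≠ z) :
    ∃ s g, Fr z Q π ρ s g := by
  obtain ⟨g, hgQ, hne⟩ := h
  have hsq : g * z * g⁻¹ * (g * z * g⁻¹) = 1 := (S.loc.conj g).sq
  have hπ : π (g * z * g⁻¹) ≠ 0 := fun e => by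
    rcases (S.pi_eq _ hgQ).1 e with e' | e'
    · exact (S.loc.conj g).ne_one e'
    · exact hne e'
  have hq : q (π (g * z * g⁻¹)) = 0 := by
    rcases F_cases (q (π (g * z * g⁻¹))) with e | e
    · exact e
    · exfalso
      have := S.sq _ hgQ
      rw [hsq, e, zb_one] at this
      exact S.loc.ne_one this.symm
  obtain ⟨a, ha, b, hb, hab⟩ := move_sing _ hq hπ
  obtain ⟨h, hh, hρ⟩ := S.lift _ (isOm_tr_tr ha hb)
  have hi : h⁻¹ * z = z * h⁻¹ := ((show Commute h z from hh).inv_left).eq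
  have hm : h⁻¹ * (g * z * g⁻¹) * h ∈ Q := by simpa using S.conj_mem hi hgQ
  refine ⟨h⁻¹ * (g * z * g⁻¹) * h, h⁻¹ * g, S, by group, hm, S.rho_inj hh ?_⟩
  rw [← S.conj h hh _ hm, show h * (h⁻¹ * (g * z * g⁻¹) * h) * h⁻¹ = g * z * g⁻¹ by group, hρ]
  exact hab.symm

namespace Fr

variable (X : Fr z Q π ρ s g)
include X

theorem sne : s ≠ z := fun e => q_e0.2 (X.se.symm.trans (by rw [e, X.S.pi_z]))

theorem sne_one : s ≠ 1 := fun e => q_e0.2 (X.se.symm.trans (by rw [e, X.S.pi_one]))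

theorem pair : Pair Q z g :=
  ⟨X.S.loc, by rw [X.S.card]; norm_num, X.sconj ▸ X.sQ, fun e => X.sne (X.sconj.symm.trans e)⟩

theorem loc' : XSLocal (Q₁ Q g) s := X.sconj ▸ X.S.loc.conj g

theorem zQ₁ : z ∈ Q₁ Q g := X.pair.z_mem'

theorem orth : Orth Q z (Q₁ Q g) s := ⟨X.S.loc, X.loc', X.sQ, X.zQ₁, X.sne⟩

theorem ss : s * s = 1 := X.loc'.sq

theorem sz : s * z = z * s := X.S.loc.comm X.sQ

theorem bil_se {x : G} (hx : x ∈ Q) : x * s = s * x ↔ bil (π x) e0 = 0 := by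
  rw [X.S.comm_iff hx X.sQ, X.se]

theorem mem_A {x : G} : x ∈ hA Q s ↔ x ∈ Q ∧ bil (π x) e0 = 0 :=
  ⟨fun h => ⟨h.1, (X.bil_se h.1).1 (mem_centralizer_one.1 h.2)⟩,
    fun h => ⟨h.1, mem_centralizer_one.2 ((X.bil_se h.1).2 h.2)⟩⟩

theorem B_comm {b : G} (hb : b ∈ hB z Q g) : b * z = z * b ∧ b * s = s * b :=
  ⟨mem_centralizer_one.1 hb.2, X.loc'.comm hb.1⟩

theorem rho_fix {c : G} (hcz : c * z = z * c) (hcs : c * s = s * c) : ρ c e0 = e0 := by
  have h : c * s * c⁻¹ = s := mul_inv_eq_iff_eq_mul.2 hcs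
  conv_rhs => rw [← X.se, ← h, X.S.conj c hcz s X.sQ, X.se]

/-- Lifts of maps fixing the base point centralise `s`. -/
theorem lift_fix {f : V → V} (hf : IsOm f) (he : f e0 = e0) :
    ∃ c, c * z = z * c ∧ c * s = s * c ∧ ρ c = f := by
  obtain ⟨h, hh, hρ⟩ := X.S.lift f hf
  have hm := X.S.conj_mem hh X.sQ
  have hp : π (h * s * h⁻¹) = π s := by rw [X.S.conj h hh s X.sQ, X.se, hρ, he]
  rcases X.S.eq_of_pi hm X.sQ hp with e | e
  · exact ⟨h, hh, mul_inv_eq_iff_eq_mul.1 e, hρ⟩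
  · obtain ⟨y, hy, hy1, hy2⟩ := X.pair.exists_left
    rw [X.sconj] at hy2
    have hyz : y * z = z * y := X.S.Qz hy
    have hyh : y * h * z = z * (y * h) := by rw [mul_assoc, hh, ← mul_assoc, hyz, mul_assoc]
    refine ⟨y * h, hyh, mul_inv_eq_iff_eq_mul.1 ?_, funext fun v => ?_⟩
    · calc y * h * s * (y * h)⁻¹ = y * (h * s * h⁻¹) * y⁻¹ := by group
        _ = (y * s * y⁻¹) * (y * z * y⁻¹) := by rw [e]; group
        _ = s := by rw [hy2, hy1, ← X.sz, mul_assoc, X.S.loc.sq, mul_one]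
    · rw [X.S.rho_mul hyz hh, (X.S.ker y hyz).2 hy, hρ]

theorem norm_Q₁ {c : G} (hcs : c * s = s * c) {x : G} (hx : x ∈ Q₁ Q g) : c * x * c⁻¹ ∈ Q₁ Q g :=
  LargeExtra.conj_mem (X.loc'.norm (mem_centralizer_one.2 hcs)) hx

theorem inter_wp {d : G} (h1 : d ∈ Q) (h2 : d ∈ Q₁ Q g) : wp (π d) = 0 := by
  by_contra hw
  have hds : bil (π d) e0 = 0 := (X.bil_se h1).1 (X.loc'.comm h2)
  have hq : q (π d) = 0 := by
    rcases F_cases (q (π d)) with e | e
    · exact e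
    · exfalso
      have h := X.S.sq d h1
      rw [← pow_two, X.orth.elementary.2 d ⟨h1, h2⟩, e, zb_one] at h
      exact X.S.loc.ne_one h.symm
  have hqw : q (inW (wp (π d))) = 0 := by rw [← q_wp _ hds]; exact hq
  obtain ⟨y, hy1, hy2, hy3⟩ := sing_span _ hqw hw
  obtain ⟨a, ha, b, hb, hab⟩ := move_w _ y (hqw.trans hy1.symm) hw hy2
  obtain ⟨c, hcz, hcs, hρ⟩ := X.lift_fix (isOm_tr_tr ha hb) (by
    show tr (inW a) (tr (inW b) e0) = e0
    rw [tr_e0, tr_e0])
  have hd1 := X.S.conj_mem hcz h1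
  have hd2 := X.norm_Q₁ hcs h2
  have hds' : bil (π (c * d * c⁻¹)) e0 = 0 := (X.bil_se hd1).1 (X.loc'.comm hd2)
  have hwp : wp (π (c * d * c⁻¹)) = y := by
    rw [X.S.conj c hcz d h1, hρ]
    have key : ∀ a b : W, ∀ v : V, bil v e0 = 0 →
        wp (tr (inW a) (tr (inW b) v)) = wp (tr (inW a) (tr (inW b) (inW (wp v)))) := by
      intro a b v hv
      rcases perp_e0 v hv with e | e
      · rw [← e]
      · conv_lhs => rw [e]
        rw [tr_add, tr_add, tr_e0, tr_e0]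
        show (_ + e0).2 = _
        rw [Prod.snd_add]
        exact add_zero _
    rw [key a b _ hds, hab]; rfl
  have hcomm : d * (c * d * c⁻¹) = c * d * c⁻¹ * d := by
    have := X.orth.elementary.1
    exact congrArg Subtype.val
      (this.is_comm.comm (⟨d, h1, h2⟩ : ↥(Q ⊓ Q₁ Q g)) ⟨_, hd1, hd2⟩)
  rw [X.S.comm_iff h1 hd1, bil_wp _ _ hds hds', hwp, hy3] at hcomm
  exact one_ne_zero hcomm

theorem mem_inter {d : G} : d ∈ Q ⊓ Q₁ Q g ↔ d = 1 ∨ d = z ∨ d = s ∨ d = s * z := by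
  constructor
  · rintro ⟨h1, h2⟩
    have hds : bil (π d) e0 = 0 := (X.bil_se h1).1 (X.loc'.comm h2)
    have h0 : inW (wp (π d)) = 0 := by rw [X.inter_wp h1 h2]; rfl
    rcases perp_e0 _ hds with e | e
    · rw [h0] at e
      rcases (X.S.pi_eq d h1).1 e with e' | e'
      · exact Or.inl e'
      · exact Or.inr (Or.inl e')
    · rw [h0, zero_add, ← X.se] at e
      exact Or.inr (Or.inr (X.S.eq_of_pi h1 X.sQ e))
  · rintro (rfl | rfl | rfl | rfl)
    · exact one_mem _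
    · exact ⟨X.S.loc.mem, X.zQ₁⟩
    · exact ⟨X.sQ, X.loc'.mem⟩
    · exact mul_mem ⟨X.sQ, X.loc'.mem⟩ ⟨X.S.loc.mem, X.zQ₁⟩

theorem E_comm {c d : G} (hcz : c * z = z * c) (hcs : c * s = s * c) (hd : d ∈ Q ⊓ Q₁ Q g) :
    c * d = d * c := by
  rcases X.mem_inter.1 hd with rfl | rfl | rfl | rfl
  · simp
  · exact hcz
  · exact hcs
  · exact ((show Commute c s from hcs).mul_right hcz).eq

theorem rho_B {b : G} (hb : b ∈ hB z Q g) : ∀ v, ρ b v = sg e0 (inW (vb ρ b)) v := by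
  obtain ⟨hbz, hbs⟩ := X.B_comm hb
  refine X.S.rho_rad hbz (X.rho_fix hbz hbs) fun x hx => ?_
  obtain ⟨a, ha, rfl⟩ := X.S.pi_surj x
  have haA : a ∈ hA Q s := X.mem_A.2 ⟨ha, hx⟩
  have hm := X.orth.comm_mem haA hb
  rw [commutatorElement_def] at hm
  have hπ : π (a * b * a⁻¹ * b⁻¹) = π a + ρ b (π a) := by
    rw [show a * b * a⁻¹ * b⁻¹ = a * (b * a⁻¹ * b⁻¹) by group,
      X.S.pi_mul a ha _ (X.S.conj_mem hbz (Q.inv_mem ha)), X.S.conj b hbz _ (Q.inv_mem ha),
      X.S.pi_inv ha]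
  have h01 : π (a * b * a⁻¹ * b⁻¹) = 0 ∨ π (a * b * a⁻¹ * b⁻¹) = e0 := by
    rcases X.mem_inter.1 hm with e | e | e | e <;> rw [e]
    · exact Or.inl X.S.pi_one
    · exact Or.inl X.S.pi_z
    · exact Or.inr X.se
    · exact Or.inr (by rw [X.S.pi_mul s X.sQ z X.S.loc.mem, X.se, X.S.pi_z, add_zero])
  rw [hπ] at h01
  have hsplit : ρ b (π a) = π a + (π a + ρ b (π a)) := by rw [← add_assoc, add_self, zero_add]
  rcases h01 with e | e
  · exact Or.inl (by rw [hsplit, e, add_zero])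
  · exact Or.inr (by rw [hsplit, e])

theorem vb_mul {a b : G} (ha : a ∈ hB z Q g) (hb : b ∈ hB z Q g) :
    vb ρ (a * b) = vb ρ a + vb ρ b := by
  apply sg_inj
  rw [← X.rho_B (mul_mem ha hb), X.S.rho_mul (X.B_comm ha).1 (X.B_comm hb).1, X.rho_B hb, X.rho_B ha,
    sg_add_sg]

theorem card_B : Nat.card ↥(hB z Q g) = 64 := by
  have ht : g⁻¹ * z * g ∈ Q := mem_conjMap.1 X.zQ₁
  have hne : π (g⁻¹ * z * g) ≠ 0 := fun e => by
    rcases (X.S.pi_eq _ ht).1 e with e' | e'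
    · exact X.S.loc.ne_one (by rw [show z = g * (g⁻¹ * z * g) * g⁻¹ by group, e']; group)
    · exact X.sne (by rw [← X.sconj, ← congrArg (fun w => g * w * g⁻¹) e']; group)
  have hmap : (Q ⊓ centralizer ({g⁻¹ * z * g} : Set G)).map (MulAut.conj g).toMonoidHom =
      hB z Q g := by
    ext x
    constructor
    · rintro ⟨y, ⟨hy, hy'⟩, rfl⟩
      refine ⟨conj_mem_conjMap hy, mem_centralizer_one.2 ?_⟩
      have := mem_centralizer_one.1 hy'
      show g * y * g⁻¹ * z = z * (g * y * g⁻¹)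
      calc g * y * g⁻¹ * z = g * (y * (g⁻¹ * z * g)) * g⁻¹ := by group
        _ = g * (g⁻¹ * z * g * y) * g⁻¹ := by rw [this]
        _ = z * (g * y * g⁻¹) := by group
    · rintro ⟨hx, hx'⟩
      refine ⟨g⁻¹ * x * g, ⟨mem_conjMap.1 hx, mem_centralizer_one.2 ?_⟩, ?_⟩
      · have := mem_centralizer_one.1 hx'
        calc g⁻¹ * x * g * (g⁻¹ * z * g) = g⁻¹ * (x * z) * g := by group
          _ = g⁻¹ * (z * x) * g := by rw [this]
          _ = g⁻¹ * z * g * (g⁻¹ * x * g) := by group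
      · show g * (g⁻¹ * x * g) * g⁻¹ = x
        group
  rw [← hmap, card_map_of_injective (MulAut.conj g).injective, X.S.card_cent ht hne]

theorem vb_eq_zero {b : G} (hb : b ∈ hB z Q g) : vb ρ b = 0 ↔ b ∈ Q ⊓ Q₁ Q g := by
  constructor
  · intro h
    refine ⟨(X.S.ker b (X.B_comm hb).1).1 fun v => ?_, hb.1⟩
    rw [X.rho_B hb, h, (sg_zero v).2]
  · intro h
    show wp (ρ b f0) = 0
    rw [(X.S.ker b (X.B_comm hb).1).2 h.1]; rfl

theorem exists_B (v : W) : ∃ b ∈ hB z Q g, vb ρ b = v := by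
  let f : ↥(hB z Q g) →* Multiplicative W :=
    MonoidHom.mk' (fun b => Multiplicative.ofAdd (vb ρ b)) fun a b => by
      show Multiplicative.ofAdd (vb ρ ((a : G) * b)) = _
      rw [X.vb_mul a.2 b.2]; rfl
  have hk : f.ker.map (hB z Q g).subtype = Q ⊓ Q₁ Q g := by
    ext x
    constructor
    · rintro ⟨y, hy, rfl⟩
      exact (X.vb_eq_zero y.2).1 hy
    · intro hx
      exact ⟨⟨x, (X.orth.inf_le hx).2⟩, (X.vb_eq_zero (X.orth.inf_le hx).2).2 hx, rfl⟩
  have hle : Nat.card f.ker ≤ 4 := by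
    classical
    rw [← card_map_of_injective (hB z Q g).subtype_injective, hk, ← SetLike.coe_sort_coe,
      Nat.card_coe_set_eq]
    refine (Set.ncard_le_ncard (t := ({1, z, s, s * z} : Set G)) (fun x hx => ?_) (Set.toFinite _)).trans ?_
    · simpa using X.mem_inter.1 hx
    · refine (Set.ncard_insert_le _ _).trans ?_
      refine (Nat.add_le_add_right (Set.ncard_insert_le _ _) 1).trans ?_
      refine (Nat.add_le_add_right (Nat.add_le_add_right (Set.ncard_insert_le _ _) 1) 1).trans ?_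
      simp
  have h := f.ker.card_mul_index
  rw [X.card_B, index_ker] at h
  have htop : f.range = ⊤ := eq_top_of_le_card _ (by
    rw [show Nat.card (Multiplicative W) = 16 by simp [Nat.card_eq_fintype_card]]
    have := Nat.mul_le_mul_right (Nat.card f.range) hle
    omega)
  obtain ⟨b, hb⟩ := MonoidHom.range_eq_top.1 htop (Multiplicative.ofAdd v)
  exact ⟨b, b.2, congrArg Multiplicative.toAdd hb⟩

theorem exists_A (v : W) : ∃ a ∈ hA Q s, wp (π a) = v := by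
  obtain ⟨x, hx, e⟩ := X.S.pi_surj (inW v)
  exact ⟨x, X.mem_A.2 ⟨hx, by rw [e]; exact (bil_inW_e0 v).1⟩, by rw [e]; rfl⟩

end Fr

end Cfsg.Agent.SuzT
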