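import Cfsg.Agent.Lib.SuzT.Space

/-!
Forms on the four-dimensional elliptic space.
-/

set_option autoImplicit false
set_option maxRecDepth 20000
set_option synthInstance.maxSize 4000
set_option synthInstance.maxHeartbeats 400000

namespace Cfsg.Agent.SuzT

local notation "F" => ZMod 2

/-- A function constant on the two kinds of non-zero vectors. -/
def twoVal (c₀ c₁ : F) (v : W) : F := if v = 0 then 0 else if q (inW v) = 0 then c₀ else c₁

/-- Representatives of the two kinds of non-zero vectors. -/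
def nW : W := wp a0
/-- Representative of the singular vectors. -/
def sW : W := wp e1

theorem rep_facts : q (inW nW) = 1 ∧ q (inW sW) = 0 ∧ nW ≠ 0 ∧ sW ≠ 0 := by decide +kernel

theorem twoVal_cubic : ∀ c₀ c₁ : F,
    (∀ u v w : W, twoVal c₀ c₁ (u + v + w) + twoVal c₀ c₁ (u + v) + twoVal c₀ c₁ (u + w) +
      twoVal c₀ c₁ (v + w) + twoVal c₀ c₁ u + twoVal c₀ c₁ v + twoVal c₀ c₁ w = 0) → c₀ = 0 := by
  decide +kernel

theorem twoVal_q : ∀ c : F, ∀ v : W, twoVal 0 c v = c * q (inW v) := by decide +kernel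

/-- The vector representing a linear functional. -/
def repr (l : W → F) : W :=
  ((l ((0, 1), (0, 0)), l ((1, 0), (0, 0))), (l ((0, 0), (0, 1)), l ((0, 0), (1, 0))))

theorem repr_spec (l : W → F) (hl : ∀ u v, l (u + v) = l u + l v) (x : W) :
    l x = bil (inW x) (inW (repr l)) := by
  have h0 : l 0 = 0 := by
    have := hl 0 0
    rw [add_zero] at this
    exact left_eq_add.1 this
  obtain ⟨⟨c, d⟩, ⟨a, b⟩⟩ := x
  have hsplit : (((c, d), (a, b)) : W) =
      (((c, 0), (0, 0)) : W) + ((0, d), (0, 0)) + (((0, 0), (a, 0)) + ((0, 0), (0, b))) := by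
    simp
  rw [hsplit, hl, hl, hl]
  have cs : ∀ c : F, c = 0 ∨ c = 1 := by decide
  have h0' : l ((0, 0), (0, 0)) = 0 := h0
  rcases cs c with rfl | rfl <;> rcases cs d with rfl | rfl <;> rcases cs a with rfl | rfl <;>
    rcases cs b with rfl | rfl <;> simp [repr, bil, inW, h0']

theorem fixed_sW : ∀ m : W,
    (∀ u : F × F, u ≠ 0 → ∀ x : W,
      bil (inW (wp (sg e1 ((0, 0), ((0, 0), u)) (inW x)))) (inW m) = bil (inW x) (inW m)) →
    m = 0 ∨ m = sW := by decide +kernel

theorem sing_sum : ∀ v : W, ∃ a : W, ∃ b : W,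
    q (inW a) = 0 ∧ q (inW b) = 0 ∧ a + b = v := by decide +kernel

theorem sg1_fix : ∀ u : F × F, sg e1 ((0, 0), ((0, 0), u)) e0 = e0 ∧
    sg e1 ((0, 0), ((0, 0), u)) (inW sW) = inW sW := by decide +kernel

theorem wp_shift : ∀ x : W, ∀ c : F, wp (inW x + sm c e0) = x := by decide +kernel

end Cfsg.Agent.SuzT
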