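import Cfsg.Agent.Lib.SuzT.Frame
import Cfsg.Agent.Lib.SuzT.SpaceForms

/-!
The commutator pairing between the two halves of the radical.
-/

set_option autoImplicit false
set_option linter.style.haveILetI false
set_option linter.unusedSectionVars false
set_option maxRecDepth 20000
set_option synthInstance.maxSize 4000
set_option synthInstance.maxHeartbeats 400000

namespace Cfsg.Agent.SuzT

open Subgroup LargeExtra

local notation "F" => ZMod 2

variable {G : Type*} [Group G] [Finite G] {z : G} {Q : Subgroup G} {π : G → V} {ρ : G → V → V}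
  {s g : G}

/-- The commutator of the two halves. -/
abbrev cm (a b : G) : G := b * a * b⁻¹ * a⁻¹

/-- The form of the two halves. -/
abbrev beta (π : G → V) (ρ : G → V → V) (a b : G) : F := bil (inW (wp (π a))) (inW (vb ρ b))

open Classical in
/-- The `z`-exponent of the commutator. -/
noncomputable def phi (s : G) (π : G → V) (ρ : G → V → V) (a b : G) : F :=
  if cm a b = zb s (beta π ρ a b) then 0 else 1

namespace Fr

variable (X : Fr z Q π ρ s g)
include X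

theorem zb_mem (c d : F) : zb z c * zb s d ∈ Q ⊓ Q₁ Q g := by
  rcases F_cases c with rfl | rfl <;> rcases F_cases d with rfl | rfl <;>
    simp only [zb_zero, zb_one, one_mul, mul_one]
  · exact one_mem _
  · exact ⟨X.sQ, X.loc'.mem⟩
  · exact ⟨X.S.loc.mem, X.zQ₁⟩
  · exact mul_mem ⟨X.S.loc.mem, X.zQ₁⟩ ⟨X.sQ, X.loc'.mem⟩

theorem E_form {d : G} (hd : d ∈ Q ⊓ Q₁ Q g) :
    ∃ c₁ c₂ : F, d = zb z c₁ * zb s c₂ ∧ π d = sm c₂ e0 := by
  have s0 : sm (0 : F) e0 = 0 := if_pos rfl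
  have s1 : sm (1 : F) e0 = e0 := if_neg (by decide)
  rcases X.mem_inter.1 hd with rfl | rfl | rfl | rfl
  · exact ⟨0, 0, by simp [zb_zero], by rw [s0, X.S.pi_one]⟩
  · exact ⟨1, 0, by simp [zb_zero, zb_one], by rw [s0, X.S.pi_z]⟩
  · exact ⟨0, 1, by simp [zb_zero, zb_one], by rw [s1, X.se]⟩
  · exact ⟨1, 1, by rw [zb_one, zb_one, X.sz],
      by rw [s1, X.S.pi_mul _ X.sQ _ X.S.loc.mem, X.se, X.S.pi_z, add_zero]⟩

theorem pi_zb (c d : F) : π (zb z c * zb s d) = sm d e0 := by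
  have s0 : sm (0 : F) e0 = 0 := if_pos rfl
  have s1 : sm (1 : F) e0 = e0 := if_neg (by decide)
  rcases F_cases c with rfl | rfl <;> rcases F_cases d with rfl | rfl <;>
    simp only [zb_zero, zb_one, one_mul, mul_one, s0, s1]
  · exact X.S.pi_one
  · exact X.se
  · exact X.S.pi_z
  · rw [X.S.pi_mul _ X.S.loc.mem _ X.sQ, X.se, X.S.pi_z, zero_add]

theorem cm_mem {a b : G} (ha : a ∈ hA Q s) (hb : b ∈ hB z Q g) : cm a b ∈ Q ⊓ Q₁ Q g := by
  have h := inv_mem (X.orth.comm_mem ha hb)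
  rw [commutatorElement_def, show (a * b * a⁻¹ * b⁻¹)⁻¹ = cm a b by simp [cm, mul_assoc]] at h
  exact h

theorem cm_spec {a b : G} (ha : a ∈ hA Q s) (hb : b ∈ hB z Q g) :
    cm a b = zb z (phi s π ρ a b) * zb s (beta π ρ a b) := by
  obtain ⟨c₁, c₂, e, hπ⟩ := X.E_form (X.cm_mem ha hb)
  have hbz := (X.B_comm hb).1
  have haq := (X.mem_A.1 ha)
  have hv : π (cm a b) = sm (beta π ρ a b) e0 := by
    rw [show cm a b = b * a * b⁻¹ * a⁻¹ from rfl,
      X.S.pi_mul _ (X.S.conj_mem hbz ha.1) _ (Q.inv_mem ha.1), X.S.conj b hbz a ha.1, X.S.pi_inv ha.1,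
      X.rho_B hb, sg_e0_perp _ _ haq.2]
    rw [show bil (π a) (inW (vb ρ b)) = beta π ρ a b by
      rw [bil_wp _ _ haq.2 (bil_inW_e0 _).1]; rfl]
    rw [add_comm (π a), add_assoc, add_self, add_zero]
  have hc2 : c₂ = beta π ρ a b := by
    rw [hπ] at hv
    have : ∀ c d : F, sm c e0 = sm d e0 → c = d := by decide +kernel
    exact this _ _ hv
  subst hc2
  rcases F_cases c₁ with rfl | rfl
  · rw [phi, if_pos (by rw [e, zb_zero, one_mul]), zb_zero, one_mul, e, zb_zero, one_mul]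
  · rw [phi, if_neg, e]
    intro h
    rw [e] at h
    exact X.S.loc.ne_one (by rwa [mul_eq_right, zb_one] at h)

theorem phi_eq {a b : G} (ha : a ∈ hA Q s) (hb : b ∈ hB z Q g) {c d : F}
    (h : cm a b = zb z c * zb s d) : phi s π ρ a b = c ∧ beta π ρ a b = d := by
  have h1 := congrArg π ((X.cm_spec ha hb).symm.trans h)
  rw [X.pi_zb, X.pi_zb] at h1
  have : ∀ c d : F, sm c e0 = sm d e0 → c = d := by decide +kernel
  have hd := this _ _ h1
  refine ⟨?_, hd⟩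
  have h2 := (X.cm_spec ha hb).symm.trans h
  rw [hd] at h2
  have h3 := mul_right_cancel h2
  rcases F_cases c with rfl | rfl <;> rcases F_cases (phi s π ρ a b) with e | e <;>
    rw [e] at h3 ⊢ <;> simp only [zb_zero, zb_one] at h3
  · exact absurd h3 X.S.loc.ne_one
  · exact absurd h3.symm X.S.loc.ne_one

theorem E_central_A {a d : G} (ha : a ∈ hA Q s) (hd : d ∈ Q ⊓ Q₁ Q g) : a * d = d * a :=
  X.E_comm (X.S.Qz ha.1) (mem_centralizer_one.1 ha.2) hd

theorem E_central_B {b d : G} (hb : b ∈ hB z Q g) (hd : d ∈ Q ⊓ Q₁ Q g) : b * d = d * b :=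
  X.E_comm (X.B_comm hb).1 (X.B_comm hb).2 hd

theorem wp_mul {a a' : G} (ha : a ∈ hA Q s) (ha' : a' ∈ hA Q s) :
    wp (π (a * a')) = wp (π a) + wp (π a') := by
  rw [X.S.pi_mul a ha.1 a' ha'.1]; rfl

theorem zb_mul' (a b c d : F) :
    zb z a * zb s b * (zb z c * zb s d) = zb z (a + c) * zb s (b + d) := by
  have h : zb s b * zb z c = zb z c * zb s b := by
    refine zb_comm ?_ c
    rcases F_cases b with rfl | rfl <;> simp [zb_zero, zb_one, X.sz]
  rw [zb_add X.S.loc.sq, zb_add X.ss]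
  calc zb z a * zb s b * (zb z c * zb s d) = zb z a * (zb s b * zb z c) * zb s d := by group
    _ = zb z a * (zb z c * zb s b) * zb s d := by rw [h]
    _ = zb z a * zb z c * (zb s b * zb s d) := by group

theorem phi_add_left {a a' b : G} (ha : a ∈ hA Q s) (ha' : a' ∈ hA Q s) (hb : b ∈ hB z Q g) :
    phi s π ρ (a * a') b = phi s π ρ a b + phi s π ρ a' b := by
  refine (X.phi_eq (mul_mem ha ha') hb (d := beta π ρ a b + beta π ρ a' b) ?_).1
  rw [← X.zb_mul', ← X.cm_spec ha hb, ← X.cm_spec ha' hb]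
  have hc := X.E_central_A ha (X.cm_mem ha' hb)
  calc cm (a * a') b = b * a * b⁻¹ * cm a' b * a⁻¹ := by simp [cm, mul_assoc]
    _ = cm a b * (a * cm a' b) * a⁻¹ := by simp [cm, mul_assoc]
    _ = cm a b * (cm a' b * a) * a⁻¹ := by rw [hc]
    _ = cm a b * cm a' b := by group

theorem phi_add_right {a b b' : G} (ha : a ∈ hA Q s) (hb : b ∈ hB z Q g) (hb' : b' ∈ hB z Q g) :
    phi s π ρ a (b * b') = phi s π ρ a b + phi s π ρ a b' := by
  refine (X.phi_eq ha (mul_mem hb hb') (d := beta π ρ a b + beta π ρ a b') ?_).1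
  rw [← X.zb_mul', ← X.cm_spec ha hb, ← X.cm_spec ha hb']
  have hc := X.E_central_B hb (X.cm_mem ha hb')
  have hc' := X.E_comm (c := cm a b) (d := cm a b') (X.S.Qz (X.cm_mem ha hb).1)
    (mem_centralizer_one.1 (X.orth.inf_le (X.cm_mem ha hb)).1.2) (X.cm_mem ha hb')
  calc cm a (b * b') = b * cm a b' * a * b⁻¹ * a⁻¹ := by simp [cm, mul_assoc]
    _ = cm a b' * (b * a * b⁻¹ * a⁻¹) := by rw [hc]; group
    _ = cm a b * cm a b' := by rw [hc']

theorem phi_E_left {d b : G} (hd : d ∈ Q ⊓ Q₁ Q g) (hb : b ∈ hB z Q g) : phi s π ρ d b = 0 := by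
  refine (X.phi_eq (X.orth.inf_le hd).1 hb (d := 0) ?_).1
  show b * d * b⁻¹ * d⁻¹ = _
  rw [zb_zero, zb_zero, X.E_central_B hb hd]; group

theorem phi_E_right {a d : G} (ha : a ∈ hA Q s) (hd : d ∈ Q ⊓ Q₁ Q g) : phi s π ρ a d = 0 := by
  refine (X.phi_eq ha (X.orth.inf_le hd).2 (d := 0) ?_).1
  show d * a * d⁻¹ * a⁻¹ = _
  rw [zb_zero, zb_zero, ← X.E_central_A ha hd]; group

theorem A_diff {a a' : G} (ha : a ∈ hA Q s) (ha' : a' ∈ hA Q s) (h : wp (π a) = wp (π a')) :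
    a⁻¹ * a' ∈ Q ⊓ Q₁ Q g := by
  have hm : a⁻¹ * a' ∈ hA Q s := mul_mem (inv_mem ha) ha'
  have hw : inW (wp (π (a⁻¹ * a'))) = 0 := by
    rw [X.wp_mul (inv_mem ha) ha', X.S.pi_inv ha.1, h, w_add_self]; rfl
  rcases perp_e0 _ (X.mem_A.1 hm).2 with e | e
  · rw [hw] at e
    rcases (X.S.pi_eq _ hm.1).1 e with e' | e' <;> rw [e']
    · exact one_mem _
    · exact ⟨X.S.loc.mem, X.zQ₁⟩
  · rw [hw, zero_add, ← X.se] at e
    rcases X.S.eq_of_pi hm.1 X.sQ e with e' | e' <;> rw [e']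
    · exact ⟨X.sQ, X.loc'.mem⟩
    · exact mul_mem ⟨X.sQ, X.loc'.mem⟩ ⟨X.S.loc.mem, X.zQ₁⟩

theorem B_diff {b b' : G} (hb : b ∈ hB z Q g) (hb' : b' ∈ hB z Q g) (h : vb ρ b = vb ρ b') :
    b⁻¹ * b' ∈ Q ⊓ Q₁ Q g := by
  rw [← X.vb_eq_zero (mul_mem (inv_mem hb) hb')]
  have h1 := X.vb_mul hb (inv_mem hb)
  rw [mul_inv_cancel, (X.vb_eq_zero (one_mem _)).2 (one_mem _)] at h1
  have hi : vb ρ b⁻¹ = vb ρ b := by
    calc vb ρ b⁻¹ = vb ρ b + (vb ρ b + vb ρ b⁻¹) := by rw [← add_assoc, w_add_self, zero_add]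
      _ = vb ρ b := by rw [← h1, add_zero]
  rw [X.vb_mul (inv_mem hb) hb', hi, h, w_add_self]

/-- The pairing depends on the coordinates only. -/
theorem phi_congr {a a' b b' : G} (ha : a ∈ hA Q s) (ha' : a' ∈ hA Q s) (hb : b ∈ hB z Q g)
    (hb' : b' ∈ hB z Q g) (h1 : wp (π a) = wp (π a')) (h2 : vb ρ b = vb ρ b') :
    phi s π ρ a b = phi s π ρ a' b' := by
  have e1 := X.A_diff ha ha' h1
  have e2 := X.B_diff hb hb' h2
  rw [show a' = a * (a⁻¹ * a') by group, show b' = b * (b⁻¹ * b') by group,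
    X.phi_add_left ha (X.orth.inf_le e1).1 (mul_mem hb (X.orth.inf_le e2).2),
    X.phi_add_right ha hb (X.orth.inf_le e2).2, X.phi_E_right ha e2,
    X.phi_E_left e1 (mul_mem hb (X.orth.inf_le e2).2), add_zero, add_zero]

theorem conj_A {c a : G} (hcz : c * z = z * c) (hcs : c * s = s * c) (ha : a ∈ hA Q s) :
    c * a * c⁻¹ ∈ hA Q s ∧ wp (π (c * a * c⁻¹)) = wp (ρ c (inW (wp (π a)))) := by
  have hm : c * a * c⁻¹ ∈ hA Q s := ⟨X.S.conj_mem hcz ha.1, mem_centralizer_one.2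
    (((show Commute c s from hcs).mul_left (mem_centralizer_one.1 ha.2 : Commute a s)).mul_left
      (show Commute c s from hcs).inv_left).eq⟩
  refine ⟨hm, ?_⟩
  rw [X.S.conj c hcz a ha.1]
  rcases perp_e0 _ (X.mem_A.1 ha).2 with e | e
  · rw [← e]
  · conv_lhs => rw [e, X.S.rho_add hcz, X.rho_fix hcz hcs]
    show (_ + e0).2 = _
    rw [Prod.snd_add]
    exact add_zero _

theorem conj_B {c b : G} (hcz : c * z = z * c) (hcs : c * s = s * c) (hb : b ∈ hB z Q g) :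
    c * b * c⁻¹ ∈ hB z Q g ∧ vb ρ (c * b * c⁻¹) = wp (ρ c (inW (vb ρ b))) := by
  have hcb : c * b * c⁻¹ ∈ hB z Q g := ⟨X.norm_Q₁ hcs hb.1, mem_centralizer_one.2
    (((show Commute c z from hcz).mul_left (X.B_comm hb).1).mul_left
      (show Commute c z from hcz).inv_left).eq⟩
  refine ⟨hcb, ?_⟩
  have hi : c⁻¹ * z = z * c⁻¹ := ((show Commute c z from hcz).inv_left).eq
  have hcb' : c * b * z = z * (c * b) := ((show Commute c z from hcz).mul_left (X.B_comm hb).1).eq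
  show wp (ρ (c * b * c⁻¹) f0) = _
  rw [X.S.rho_mul hcb' hi, X.S.rho_mul hcz (X.B_comm hb).1, X.rho_B hb]
  have hy : ρ c (ρ c⁻¹ f0) = f0 := by
    rw [← X.S.rho_mul hcz hi, mul_inv_cancel, X.S.rho_one]
  have hy1 : bil (ρ c⁻¹ f0) e0 = 1 := by
    have hi2 : c⁻¹ * s = s * c⁻¹ := ((show Commute c s from hcs).inv_left).eq
    conv_lhs => rw [← X.rho_fix hi hi2]
    rw [X.S.rho_bil hi]; decide +kernel
  have key : ∀ v : W, ∀ y : V, bil y e0 = 1 →
      ∃ t : F, sg e0 (inW v) y = y + inW v + sm t e0 := by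
    intro v y hy
    refine ⟨bil y (inW v) + q (inW v), ?_⟩
    have : ∀ v : W, ∀ y : V, bil y e0 = 1 →
        sg e0 (inW v) y = y + inW v + sm (bil y (inW v) + q (inW v)) e0 := by decide +kernel
    exact this v y hy
  obtain ⟨t, ht⟩ := key (vb ρ b) _ hy1
  rw [ht, X.S.rho_add hcz, X.S.rho_add hcz, hy]
  have hs : ρ c (sm t e0) = sm t e0 := by
    unfold sm
    split_ifs
    · exact X.S.rho_zero hcz
    · exact X.rho_fix hcz hcs
  rw [hs]
  have : ∀ t : F, ∀ x : V, wp (f0 + x + sm t e0) = wp x := by decide +kernel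
  exact this t _

theorem phi_conj {c a b : G} (hcz : c * z = z * c) (hcs : c * s = s * c) (ha : a ∈ hA Q s)
    (hb : b ∈ hB z Q g) : phi s π ρ (c * a * c⁻¹) (c * b * c⁻¹) = phi s π ρ a b := by
  refine (X.phi_eq (X.conj_A hcz hcs ha).1 (X.conj_B hcz hcs hb).1 (d := beta π ρ a b) ?_).1
  rw [← X.cm_spec ha hb]
  have h := X.E_comm hcz hcs (X.cm_mem ha hb)
  calc cm (c * a * c⁻¹) (c * b * c⁻¹) = c * cm a b * c⁻¹ := by simp [cm, mul_assoc]
    _ = cm a b := by rw [h, mul_inv_cancel_right]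

theorem exists_y0 : ∃ y ∈ Q, π y = f0 ∧ y * s * y⁻¹ = s * z := by
  obtain ⟨y, hy, e⟩ := X.S.pi_surj f0
  refine ⟨y, hy, e, ?_⟩
  have h := X.S.rule hy X.sQ
  rw [e, X.se, show bil f0 e0 = 1 by decide +kernel, zb_one] at h
  rw [h, mul_assoc s y z, X.S.Qz hy]; group

/-- Conjugation of the right half by an element of `Q` outside the centraliser of `s`. -/
theorem third {y b : G} (hy : y ∈ Q) (hπ : π y = f0) (hb : b ∈ hB z Q g) :
    ∃ d ∈ hA Q s, y * b * y⁻¹ = b * d ∧ wp (π d) = vb ρ b ∧ q (π d) = q (inW (vb ρ b)) := by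
  have hi : b⁻¹ * z = z * b⁻¹ := ((show Commute b z from (X.B_comm hb).1).inv_left).eq
  have hm : b⁻¹ * y * b * y⁻¹ ∈ Q := mul_mem (by simpa using X.S.conj_mem hi hy) (Q.inv_mem hy)
  have hv : π (b⁻¹ * y * b * y⁻¹) = inW (vb ρ b) + sm (q (inW (vb ρ b))) e0 := by
    rw [show b⁻¹ * y * b * y⁻¹ = b⁻¹ * y * b⁻¹⁻¹ * y⁻¹ by group,
      X.S.pi_mul _ (X.S.conj_mem hi hy) _ (Q.inv_mem hy), X.S.conj _ hi y hy, X.S.pi_inv hy, hπ]
    have hinv : ∀ v : V, ρ b⁻¹ v = ρ b v := fun v => by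
      refine X.S.rho_inj (X.B_comm hb).1 ?_
      rw [← X.S.rho_mul (X.B_comm hb).1 hi, mul_inv_cancel, X.S.rho_one, X.rho_B hb, X.rho_B hb,
        sg_add_sg, w_add_self, (sg_zero v).2]
    have key : ∀ a b c : V, a + b + c + a = b + c := fun a b c => by
      rw [add_comm (a + b + c) a, ← add_assoc, ← add_assoc, add_self, zero_add]
    rw [hinv, X.rho_B hb, sg_f0, key]
  have hper : ∀ v : W, bil (inW v + sm (q (inW v)) e0) e0 = 0 ∧
      wp (inW v + sm (q (inW v)) e0) = v ∧ q (inW v + sm (q (inW v)) e0) = q (inW v) := by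
    decide +kernel
  exact ⟨b⁻¹ * y * b * y⁻¹, X.mem_A.2 ⟨hm, by rw [hv]; exact (hper _).1⟩, by group,
    by rw [hv]; exact (hper _).2.1, by rw [hv]; exact (hper _).2.2⟩

/-- The square on the right half. -/
theorem B_sq_phi {b d : G} (hb : b ∈ hB z Q g) (hd : d ∈ hA Q s) (hd1 : wp (π d) = vb ρ b)
    {y : G} (hy : y ∈ Q) (hys : y * s * y⁻¹ = s * z) (hyb : y * b * y⁻¹ = b * d) :
    b * b = zb s (phi s π ρ d b + q (π d)) := by
  have hbeta : beta π ρ d b = 0 := by rw [beta, hd1, bil_self]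
  have hc := X.cm_spec hd hb
  rw [hbeta, zb_zero s, mul_one] at hc
  set c := phi s π ρ d b with hcdef
  have hdb : b * d = d * zb z c * b := by
    have hcomm := zb_comm (X.S.Qz hd.1) c
    calc b * d = cm d b * d * b := by simp [cm, mul_assoc]
      _ = zb z c * d * b := by rw [hc]
      _ = d * zb z c * b := by rw [hcomm]
  have hbb : b * b = 1 ∨ b * b = s := X.loc'.sq_cases hb.1
  have hzb := zb_comm (X.B_comm hb).1 c
  have h1 : y * (b * b) * y⁻¹ = b * b * zb z (c + q (π d)) := by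
    have hd2 := X.S.sq d hd.1
    have hzd := zb_comm (X.S.Qz hd.1) c
    have hbd : d * b = b * d * zb z c := by
      rw [hdb, mul_assoc (d * zb z c) b, hzb, ← mul_assoc, mul_assoc d, ← zb_add X.S.loc.sq,
        show ∀ c : F, c + c = 0 by decide, zb_zero, mul_one]
    calc y * (b * b) * y⁻¹ = y * b * y⁻¹ * (y * b * y⁻¹) := by group
      _ = b * d * (b * d) := by rw [hyb]
      _ = b * (d * b) * d := by group
      _ = b * b * (d * zb z c * d) := by rw [hbd]; group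
      _ = b * b * (zb z c * (d * d)) := by rw [hzd]; group
      _ = b * b * zb z (c + q (π d)) := by rw [hd2, ← zb_add X.S.loc.sq]
  rcases hbb with e | e <;> rw [e] at h1 ⊢
  · rcases F_cases (c + q (π d)) with e' | e' <;> rw [e'] at h1 ⊢
    · rw [zb_zero]
    · rw [zb_one, mul_one, mul_inv_cancel, one_mul] at h1
      exact absurd h1.symm X.S.loc.ne_one
  · rcases F_cases (c + q (π d)) with e' | e' <;> rw [e'] at h1 ⊢
    · rw [zb_zero, mul_one, hys] at h1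
      exact absurd (mul_eq_left.1 h1) X.S.loc.ne_one
    · rw [zb_one]

theorem pairing {a b : G} (ha : a ∈ hA Q s) (hb : b ∈ hB z Q g) :
    phi s π ρ a b = beta π ρ a b := by
  choose la hla hla' using X.exists_A
  choose lb hlb hlb' using X.exists_B
  let Φ : W → W → F := fun x v => phi s π ρ (la x) (lb v)
  have hΦ : ∀ a b, a ∈ hA Q s → b ∈ hB z Q g → phi s π ρ a b = Φ (wp (π a)) (vb ρ b) :=
    fun a b ha hb => X.phi_congr ha (hla _) hb (hlb _) (hla' _).symm (hlb' _).symm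
  have addl : ∀ x x' v, Φ (x + x') v = Φ x v + Φ x' v := fun x x' v => by
    show _ = phi s π ρ (la x) (lb v) + phi s π ρ (la x') (lb v)
    rw [← X.phi_add_left (hla x) (hla x') (hlb v), hΦ _ _ (mul_mem (hla x) (hla x')) (hlb v),
      X.wp_mul (hla x) (hla x'), hla', hla', hlb']
  have addr : ∀ x v v', Φ x (v + v') = Φ x v + Φ x v' := fun x v v' => by
    show _ = phi s π ρ (la x) (lb v) + phi s π ρ (la x) (lb v')
    rw [← X.phi_add_right (hla x) (hlb v) (hlb v'), hΦ _ _ (hla x) (mul_mem (hlb v) (hlb v')),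
      X.vb_mul (hlb v) (hlb v'), hla', hlb', hlb']
  have inv : ∀ f : V → V, IsOm f → f e0 = e0 → ∀ x v, Φ (wp (f (inW x))) (wp (f (inW v))) = Φ x v := by
    intro f hf he x v
    obtain ⟨c, hcz, hcs, rfl⟩ := X.lift_fix hf he
    show _ = phi s π ρ (la x) (lb v)
    rw [← X.phi_conj hcz hcs (hla x) (hlb v),
      hΦ _ _ (X.conj_A hcz hcs (hla x)).1 (X.conj_B hcz hcs (hlb v)).1,
      (X.conj_A hcz hcs (hla x)).2, (X.conj_B hcz hcs (hlb v)).2, hla', hlb']
  have orbit : ∀ x y : W, q (inW x) = q (inW y) → x ≠ 0 → y ≠ 0 →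
      ∃ f, IsOm f ∧ f e0 = e0 ∧ wp (f (inW x)) = y := by
    intro x y h1 h2 h3
    obtain ⟨a, ha, b, hb, hab⟩ := move_w x y h1 h2 h3
    exact ⟨_, isOm_tr_tr ha hb, by rw [tr_e0, tr_e0], by rw [hab]; rfl⟩
  have hz : ∀ x, Φ x 0 = 0 ∧ Φ 0 x = 0 := fun x => by
    constructor
    · have h := addr x 0 0
      rw [add_zero] at h
      exact left_eq_add.1 h
    · have h := addl 0 0 x
      rw [add_zero] at h
      exact left_eq_add.1 h
  -- the diagonal
  have hdiag : ∀ v, Φ v v = twoVal (Φ sW sW) (Φ nW nW) v := by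
    intro v
    unfold twoVal
    split_ifs with h1 h2
    · rw [h1, (hz 0).1]
    · obtain ⟨f, hf, he, hv⟩ := orbit sW v (by rw [h2, rep_facts.2.1]) rep_facts.2.2.2 h1
      rw [← inv f hf he sW sW, hv]
    · obtain ⟨f, hf, he, hv⟩ := orbit nW v
        (by rw [(F_cases (q (inW v))).resolve_left h2, rep_facts.1]) rep_facts.2.2.1 h1
      rw [← inv f hf he nW nW, hv]
  have hc0 : Φ sW sW = 0 := by
    refine twoVal_cubic _ (Φ nW nW) fun u v w => ?_
    simp only [← hdiag, addl, addr]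
    ring_nf
    simp [show (2 : F) = 0 from rfl, show (4 : F) = 0 from rfl]
  obtain ⟨y, hy, hπy, hys⟩ := X.exists_y0
  have hsq : ∀ b, b ∈ hB z Q g → b * b = zb s (Φ (vb ρ b) (vb ρ b) + q (inW (vb ρ b))) := by
    intro b hb
    obtain ⟨d, hd, hyb, hd1, hd2⟩ := X.third hy hπy hb
    rw [X.B_sq_phi hb hd hd1 hy hys hyb, hΦ d b hd hb, hd1, hd2]
  have hc1 : Φ nW nW = 0 := by
    refine (F_cases _).resolve_right fun h1 => ?_
    have hall : ∀ b ∈ hB z Q g, b * b = 1 := fun b hb => by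
      rw [hsq b hb, hdiag, hc0, h1, twoVal_q, one_mul, show ∀ c : F, c + c = 0 by decide, zb_zero]
    have ht : g⁻¹ * z * g ∈ Q := mem_conjMap.1 X.zQ₁
    have hns : ∀ t : V, ∃ v, bil v t = 0 ∧ q v = 1 := by decide +kernel
    obtain ⟨v, hv1, hv2⟩ := hns (π (g⁻¹ * z * g))
    obtain ⟨x, hx, rfl⟩ := X.S.pi_surj v
    have hc := (X.S.comm_iff hx ht).2 hv1
    have hb : g * x * g⁻¹ ∈ hB z Q g := ⟨conj_mem_conjMap hx, mem_centralizer_one.2 (by
      calc g * x * g⁻¹ * z = g * (x * (g⁻¹ * z * g)) * g⁻¹ := by group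
        _ = g * (g⁻¹ * z * g * x) * g⁻¹ := by rw [hc]
        _ = z * (g * x * g⁻¹) := by group)⟩
    have h2 := hall _ hb
    rw [show g * x * g⁻¹ * (g * x * g⁻¹) = g * (x * x) * g⁻¹ by group, X.S.sq x hx, hv2, zb_one] at h2
    exact X.S.loc.ne_one (conj_eq_one_iff.1 h2)
  have halt : ∀ v, Φ v v = 0 := fun v => by rw [hdiag, hc0, hc1, twoVal_q, zero_mul]
  -- the functional at a singular vector
  have hm : repr (fun x => Φ x sW) = 0 ∨ repr (fun x => Φ x sW) = sW := by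
    refine fixed_sW _ fun u hu x => ?_
    have hl : ∀ x, Φ x sW = bil (inW x) (inW (repr fun x => Φ x sW)) :=
      repr_spec (fun x => Φ x sW) fun a b => addl a b sW
    rw [← hl, ← hl]
    have h := inv _ (isOm_sg1 u) (sg1_fix u).1 x sW
    unfold plane at h
    rwa [(sg1_fix u).2] at h
  obtain ⟨c, hc⟩ : ∃ c : F, ∀ x, Φ x sW = c * bil (inW x) (inW sW) := by
    rcases hm with e | e
    · exact ⟨0, fun x => by
        rw [repr_spec (fun x => Φ x sW) (fun a b => addl a b sW) x, e,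
          show inW 0 = 0 from rfl, (bil_zero _).1, zero_mul]⟩
    · exact ⟨1, fun x => by
        rw [repr_spec (fun x => Φ x sW) (fun a b => addl a b sW) x, e, one_mul]⟩
  have hsing : ∀ x v, q (inW v) = 0 → Φ x v = c * bil (inW x) (inW v) := by
    intro x v hv
    rcases eq_or_ne v 0 with rfl | hv0
    · rw [(hz x).1, show inW 0 = 0 from rfl, (bil_zero _).1, mul_zero]
    obtain ⟨f, hf, he, hfv⟩ := orbit v sW (by rw [hv, rep_facts.2.1]) hv0 rep_facts.2.2.2
    rw [← inv f hf he x v, hfv, hc]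
    congr 1
    obtain ⟨k, hkz, hks, rfl⟩ := X.lift_fix hf he
    obtain ⟨a, ha, rfl⟩ := X.exists_A x
    have h1 : bil (ρ k (inW (wp (π a)))) e0 = 0 := by
      conv_lhs => rw [← he]
      rw [X.S.rho_bil hkz]; exact (bil_inW_e0 _).1
    have h2 : bil (ρ k (inW v)) e0 = 0 := by
      conv_lhs => rw [← he]
      rw [X.S.rho_bil hkz]; exact (bil_inW_e0 _).1
    rw [← hfv, ← bil_wp _ _ h1 h2, X.S.rho_bil hkz]
  have hall : ∀ x v, Φ x v = c * bil (inW x) (inW v) := fun x v => by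
    obtain ⟨p, r, hp, hr, rfl⟩ := sing_sum v
    rw [addr, hsing x p hp, hsing x r hr, inW_add, bil_add_right, mul_add]
  rcases F_cases c with rfl | rfl
  · -- excluded by exchanging the two halves
    exfalso
    obtain ⟨q₁, hq₁, hq₁z, hq₁s⟩ := X.pair.exists_left
    obtain ⟨y₁, hy₁, hy₁s, hy₁z⟩ := X.pair.exists_right
    rw [X.sconj] at hq₁s hy₁s hy₁z
    set h := q₁ * y₁ * q₁
    have cz : ∀ u v w : G, u * (v * w) * u⁻¹ = u * v * u⁻¹ * (u * w * u⁻¹) := fun u v w => by group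
    have hhz : h * z * h⁻¹ = s := by
      calc h * z * h⁻¹ = q₁ * (y₁ * (q₁ * z * q₁⁻¹) * y₁⁻¹) * q₁⁻¹ := by simp [h, mul_assoc]
        _ = q₁ * (z * s) * q₁⁻¹ := by rw [hq₁z, hy₁z]
        _ = s := by rw [cz q₁ z s, hq₁z, hq₁s, ← mul_assoc, X.S.loc.sq, one_mul]
    have hhs : h * s * h⁻¹ = z := by
      calc h * s * h⁻¹ = q₁ * (y₁ * (q₁ * s * q₁⁻¹) * y₁⁻¹) * q₁⁻¹ := by simp [h, mul_assoc]
        _ = q₁ * (z * s * s) * q₁⁻¹ := by rw [hq₁s, cz y₁ z s, hy₁z, hy₁s]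
        _ = z := by rw [mul_assoc z s s, X.ss, mul_one, hq₁z]
    have hQ : Q.map (MulAut.conj h).toMonoidHom = Q₁ Q g :=
      X.S.loc.map_conj_eq (hhz.trans X.sconj.symm)
    have hQ' : Q.map (MulAut.conj (h * g)).toMonoidHom = Q.map (MulAut.conj (1 : G)).toMonoidHom :=
      X.S.loc.map_conj_eq (by
        rw [show h * g * z * (h * g)⁻¹ = h * (g * z * g⁻¹) * h⁻¹ by group, X.sconj, hhs]; group)
    obtain ⟨a, ha, hwa⟩ := X.exists_A (wp a0)
    obtain ⟨b, hb, hvb⟩ := X.exists_B (wp v0)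
    have h1 := X.cm_spec ha hb
    rw [hΦ a b ha hb, hall, zero_mul, zb_zero z, one_mul, beta, hwa, hvb, pair0.2.2, zb_one] at h1
    have ha' : h * a * h⁻¹ ∈ hB z Q g := by
      refine ⟨hQ ▸ conj_mem_conjMap ha.1, mem_centralizer_one.2 ?_⟩
      rw [← hhs]
      calc h * a * h⁻¹ * (h * s * h⁻¹) = h * (a * s) * h⁻¹ := by group
        _ = h * (s * a) * h⁻¹ := by rw [mem_centralizer_one.1 ha.2]
        _ = h * s * h⁻¹ * (h * a * h⁻¹) := by group
    have hb' : h * b * h⁻¹ ∈ hA Q s := by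
      refine ⟨?_, mem_centralizer_one.2 ?_⟩
      · have hm : h * b * h⁻¹ ∈ Q.map (MulAut.conj (h * g)).toMonoidHom := by
          rw [mem_conjMap, show (h * g)⁻¹ * (h * b * h⁻¹) * (h * g) = g⁻¹ * b * g by group]
          exact mem_conjMap.1 hb.1
        rw [hQ', mem_conjMap] at hm
        simpa using hm
      · rw [← hhz]
        calc h * b * h⁻¹ * (h * z * h⁻¹) = h * (b * z) * h⁻¹ := by group
          _ = h * (z * b) * h⁻¹ := by rw [(X.B_comm hb).1]
          _ = h * z * h⁻¹ * (h * b * h⁻¹) := by group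
    have h2 : cm (h * b * h⁻¹) (h * a * h⁻¹) = z := by
      calc cm (h * b * h⁻¹) (h * a * h⁻¹) = h * (cm a b)⁻¹ * h⁻¹ := by simp [cm, mul_assoc]
        _ = z := by rw [h1, inv_eq_of_mul_eq_one_right X.ss, hhs]
    have h3 := X.cm_spec hb' ha'
    rw [h2, hΦ _ _ hb' ha', hall, zero_mul, zb_zero z, one_mul] at h3
    rcases F_cases (beta π ρ (h * b * h⁻¹) (h * a * h⁻¹)) with e | e <;> rw [e] at h3
    · exact X.S.loc.ne_one (by rwa [zb_zero] at h3)
    · exact X.sne (by rw [zb_one] at h3; exact h3.symm)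
  · rw [hΦ a b ha hb, hall, one_mul]

/-- Conjugation of the left half by the right half. -/
theorem conj_rule {a b : G} (ha : a ∈ hA Q s) (hb : b ∈ hB z Q g) :
    b * a * b⁻¹ = zb z (beta π ρ a b) * zb s (beta π ρ a b) * a := by
  have h := X.cm_spec ha hb
  rw [X.pairing ha hb] at h
  rw [← h]; simp [cm, mul_assoc]

/-- Squares in the right half. -/
theorem B_sq {b : G} (hb : b ∈ hB z Q g) : b * b = zb s (q (inW (vb ρ b))) := by
  obtain ⟨y, hy, hπy, hys⟩ := X.exists_y0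
  obtain ⟨d, hd, hyb, hd1, hd2⟩ := X.third hy hπy hb
  rw [X.B_sq_phi hb hd hd1 hy hys hyb, X.pairing hd hb, beta, hd1, bil_self, zero_add, hd2]

end Fr

end Cfsg.Agent.SuzT
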