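import Cfsg.Agent.Lib.SuzT.Image
import Cfsg.Agent.Lib.LargeExtra.Radical

/-!
The setting of a group of Suzuki sporadic type, with coordinates.
-/

set_option autoImplicit false
set_option linter.style.haveILetI false
set_option linter.unusedSectionVars false
set_option maxRecDepth 20000
set_option synthInstance.maxSize 4000
set_option synthInstance.maxHeartbeats 400000

namespace Cfsg.Agent.SuzT

open Subgroup LargeExtra

local notation "F" => ZMod 2

variable {G : Type*} [Group G]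

/-- A power of an involution with exponent modulo two. -/
def zb (z : G) (c : F) : G := if c = 0 then 1 else z

theorem zb_zero (z : G) : zb z 0 = 1 := if_pos rfl

theorem zb_one (z : G) : zb z 1 = z := if_neg (by decide)

theorem F_cases : ∀ c : F, c = 0 ∨ c = 1 := by decide

theorem zb_add {z : G} (hz : z * z = 1) (c d : F) : zb z (c + d) = zb z c * zb z d := by
  have h11 : (1 : F) + 1 = 0 := by decide
  rcases F_cases c with rfl | rfl <;> rcases F_cases d with rfl | rfl <;>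
    simp [zb_zero, zb_one, h11, hz]

theorem zb_comm {z x : G} (h : x * z = z * x) (c : F) : x * zb z c = zb z c * x := by
  rcases F_cases c with rfl | rfl <;> simp [zb_zero, zb_one, h]

/-- The hypotheses with coordinates on `Q/⟨z⟩` and the action of the centraliser. -/
structure Su (z : G) (Q : Subgroup G) (π : G → V) (ρ : G → V → V) : Prop where
  loc : XSLocal Q z
  card : Nat.card Q = 128
  pi_mul : ∀ x ∈ Q, ∀ y ∈ Q, π (x * y) = π x + π y
  pi_eq : ∀ x ∈ Q, π x = 0 ↔ x = 1 ∨ x = z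
  pi_surj : ∀ v : V, ∃ x ∈ Q, π x = v
  sq : ∀ x ∈ Q, x * x = zb z (q (π x))
  conj : ∀ h, h * z = z * h → ∀ x ∈ Q, π (h * x * h⁻¹) = ρ h (π x)
  ker : ∀ h, h * z = z * h → ((∀ v, ρ h v = v) ↔ h ∈ Q)
  om : ∀ h, h * z = z * h → IsOm (ρ h)
  lift : ∀ f, IsOm f → ∃ h, h * z = z * h ∧ ρ h = f

namespace Su

variable [Finite G] {z : G} {Q : Subgroup G} {π : G → V} {ρ : G → V → V} (S : Su z Q π ρ)
include S

theorem pi_one : π 1 = 0 := (S.pi_eq 1 Q.one_mem).2 (Or.inl rfl)

theorem pi_z : π z = 0 := (S.pi_eq z S.loc.mem).2 (Or.inr rfl)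

theorem pi_inv {x : G} (hx : x ∈ Q) : π x⁻¹ = π x := by
  have h := S.pi_mul x hx x⁻¹ (Q.inv_mem hx)
  rw [mul_inv_cancel, S.pi_one] at h
  calc π x⁻¹ = π x + (π x + π x⁻¹) := by rw [← add_assoc, add_self, zero_add]
    _ = π x := by rw [← h, add_zero]

theorem eq_of_pi {x y : G} (hx : x ∈ Q) (hy : y ∈ Q) (h : π x = π y) : x = y ∨ x = y * z := by
  have h1 : π (y⁻¹ * x) = 0 := by
    rw [S.pi_mul _ (Q.inv_mem hy) _ hx, S.pi_inv hy, h, add_self]
  rcases (S.pi_eq _ (Q.mul_mem (Q.inv_mem hy) hx)).1 h1 with e | e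
  · exact Or.inl (inv_mul_eq_one.1 e).symm
  · exact Or.inr (by rw [← e, mul_inv_cancel_left])

theorem Qz {x : G} (hx : x ∈ Q) : x * z = z * x := S.loc.comm hx

theorem conj_mem {h x : G} (hh : h * z = z * h) (hx : x ∈ Q) : h * x * h⁻¹ ∈ Q :=
  LargeExtra.conj_mem (S.loc.norm (mem_centralizer_one.2 hh)) hx

theorem rule {x y : G} (hx : x ∈ Q) (hy : y ∈ Q) : x * y = y * x * zb z (bil (π x) (π y)) := by
  have h := S.sq (x * y) (Q.mul_mem hx hy)
  rw [S.pi_mul x hx y hy, q_add, zb_add S.loc.sq, zb_add S.loc.sq, ← S.sq x hx, ← S.sq y hy] at h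
  have hc := zb_comm (S.Qz hx) (bil (π x) (π y))
  have hc' := zb_comm (S.Qz hy) (bil (π x) (π y))
  have h1 : y * x * y = x * y * zb z (bil (π x) (π y)) * y := by
    calc y * x * y = x⁻¹ * (x * y * (x * y)) := by group
      _ = x * (y * (y * zb z (bil (π x) (π y)))) := by rw [h]; group
      _ = x * y * zb z (bil (π x) (π y)) * y := by rw [hc']; group
  have h2 := mul_right_cancel h1
  rw [h2, mul_assoc (x * y), ← zb_add S.loc.sq,
    show ∀ c : F, c + c = 0 by decide, zb_zero, mul_one]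

theorem comm_iff {x y : G} (hx : x ∈ Q) (hy : y ∈ Q) : x * y = y * x ↔ bil (π x) (π y) = 0 := by
  constructor
  · intro h
    rcases F_cases (bil (π x) (π y)) with e | e
    · exact e
    · exfalso
      have h2 := S.rule hx hy
      rw [e, zb_one, ← h] at h2
      exact S.loc.ne_mul_z _ h2
  · intro e
    rw [S.rule hx hy, e, zb_zero, mul_one]

theorem rho_mul {a b : G} (ha : a * z = z * a) (hb : b * z = z * b) (v : V) :
    ρ (a * b) v = ρ a (ρ b v) := by
  obtain ⟨x, hx, rfl⟩ := S.pi_surj v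
  have hab : a * b * z = z * (a * b) := by rw [mul_assoc, hb, ← mul_assoc, ha, mul_assoc]
  rw [← S.conj _ hab x hx, ← S.conj b hb x hx, ← S.conj a ha _ (S.conj_mem hb hx)]
  congr 1
  group

theorem rho_one (v : V) : ρ 1 v = v := (S.ker 1 (by simp)).2 Q.one_mem v

theorem rho_add {h : G} (hh : h * z = z * h) (u v : V) : ρ h (u + v) = ρ h u + ρ h v := by
  obtain ⟨x, hx, rfl⟩ := S.pi_surj u
  obtain ⟨y, hy, rfl⟩ := S.pi_surj v
  rw [← S.pi_mul x hx y hy, ← S.conj h hh _ (Q.mul_mem hx hy), ← S.conj h hh x hx,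
    ← S.conj h hh y hy, ← S.pi_mul _ (S.conj_mem hh hx) _ (S.conj_mem hh hy)]
  congr 1
  group

theorem rho_q {h : G} (hh : h * z = z * h) (v : V) : q (ρ h v) = q v := by
  obtain ⟨x, hx, rfl⟩ := S.pi_surj v
  rw [← S.conj h hh x hx]
  have h1 := S.sq _ (S.conj_mem hh hx)
  rw [show h * x * h⁻¹ * (h * x * h⁻¹) = h * (x * x) * h⁻¹ by group, S.sq x hx,
    zb_comm hh, mul_inv_cancel_right] at h1
  rcases F_cases (q (π x)) with e | e <;> rcases F_cases (q (π (h * x * h⁻¹))) with e' | e' <;>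
    rw [e, e'] at h1 ⊢ <;> simp only [zb_zero, zb_one] at h1
  · exact absurd h1.symm S.loc.ne_one
  · exact absurd h1 S.loc.ne_one

theorem rho_bil {h : G} (hh : h * z = z * h) (u v : V) : bil (ρ h u) (ρ h v) = bil u v := by
  have h7 := S.rho_q hh (u + v)
  rw [S.rho_add hh, q_add, S.rho_q hh, S.rho_q hh, q_add] at h7
  exact add_left_cancel h7

theorem rho_inj {h : G} (hh : h * z = z * h) {u v : V} (e : ρ h u = ρ h v) : u = v := by
  have hi : h⁻¹ * z = z * h⁻¹ := ((show Commute h z from hh).inv_left).eq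
  have h2 := congrArg (ρ h⁻¹) e
  rwa [← S.rho_mul hi hh, ← S.rho_mul hi hh, inv_mul_cancel, S.rho_one, S.rho_one] at h2

theorem rho_zero {h : G} (hh : h * z = z * h) : ρ h 0 = 0 := by
  have := S.rho_add hh 0 0
  rw [add_zero] at this
  exact left_eq_add.1 this

/-- A non-central element of `Q` has centraliser of order 64 in `Q`. -/
theorem card_cent {t : G} (ht : t ∈ Q) (h1 : π t ≠ 0) :
    Nat.card ↥(Q ⊓ centralizer ({t} : Set G)) = 64 := by
  let f : Q →* Multiplicative F := MonoidHom.mk' (fun x => Multiplicative.ofAdd (bil (π x) (π t)))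
    fun x y => by
      show Multiplicative.ofAdd (bil (π ((x : G) * y)) (π t)) = _
      rw [S.pi_mul x x.2 y y.2, bil_add_left]
      rfl
  have hsurj : Function.Surjective f := fun c => by
    rcases F_cases (Multiplicative.toAdd c) with e | e
    · exact ⟨1, by
        show Multiplicative.ofAdd (bil (π 1) (π t)) = c
        rw [S.pi_one, (bil_zero _).2, ← e]; rfl⟩
    · obtain ⟨v, hv⟩ := bil_nondeg _ h1
      obtain ⟨x, hx, rfl⟩ := S.pi_surj v
      exact ⟨⟨x, hx⟩, by
        show Multiplicative.ofAdd (bil (π x) (π t)) = c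
        rw [bil_comm, hv, ← e]; rfl⟩
  have hk : f.ker.map Q.subtype = Q ⊓ centralizer ({t} : Set G) := by
    ext x
    constructor
    · rintro ⟨y, hy, rfl⟩
      exact ⟨y.2, mem_centralizer_one.2 ((S.comm_iff y.2 ht).2 hy)⟩
    · rintro ⟨hx, hxt⟩
      exact ⟨⟨x, hx⟩, (S.comm_iff hx ht).1 (mem_centralizer_one.1 hxt), rfl⟩
  have h2 := f.ker.card_mul_index
  rw [index_ker, MonoidHom.range_eq_top.2 hsurj, card_top, S.card] at h2
  rw [← hk, card_map_of_injective Q.subtype_injective]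
  rw [show Nat.card (Multiplicative F) = 2 by simp [Nat.card_eq_fintype_card]] at h2
  omega

theorem rho_rad {h : G} (hh : h * z = z * h) (he : ρ h e0 = e0)
    (hr : ∀ x, bil x e0 = 0 → ρ h x = x ∨ ρ h x = x + e0) :
    ∀ v, ρ h v = sg e0 (inW (wp (ρ h f0))) v := by
  have hf0 : q f0 = 0 ∧ bil f0 e0 = 1 := by decide +kernel
  obtain ⟨w, hw⟩ := to_f0 (ρ h f0) (by rw [S.rho_q hh, hf0.1]) (by
    conv_lhs => rw [← he]
    rw [S.rho_bil hh, hf0.2])
  have inv : ∀ w : W, ∀ x : V, sg e0 (inW w) (sg e0 (inW w) x) = x := by decide +kernel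
  have hwp : ∀ w : W, ∀ y : V, sg e0 (inW w) y = f0 → wp y = w := by decide +kernel
  rw [hwp w _ hw]
  have hF : ρ h f0 = sg e0 (inW w) f0 := by
    calc ρ h f0 = sg e0 (inW w) (sg e0 (inW w) (ρ h f0)) := (inv _ _).symm
      _ = sg e0 (inW w) f0 := by rw [hw]
  have key : ∀ x : V, bil x e0 = 0 → ρ h x = sg e0 (inW w) x := by
    intro x hx
    have hb : bil (ρ h x) (ρ h f0) = bil x f0 := S.rho_bil hh x f0
    have hd : ∀ w : W, ∀ x y : V, bil x e0 = 0 → (y = x ∨ y = x + e0) →
        bil y (sg e0 (inW w) f0) = bil x f0 → y = sg e0 (inW w) x := by decide +kernel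
    refine hd w x _ hx (hr x hx) ?_
    rw [← hF]; exact hb
  intro v
  rcases F_cases (bil v e0) with e | e
  · exact key v e
  · have hv : v = (v + f0) + f0 := by rw [add_assoc, add_self, add_zero]
    have hsa : ∀ w : W, ∀ x : V, sg e0 (inW w) (x + f0) = sg e0 (inW w) x + sg e0 (inW w) f0 := by
      decide +kernel
    rw [hv, S.rho_add hh, key (v + f0) (by rw [bil_add_left, e, hf0.2]; decide), hsa w (v + f0)]
    rw [hF]

end Su

end Cfsg.Agent.SuzT
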