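import Mathlib.Data.ZMod.Basic
import Mathlib.Algebra.Group.Prod
import Mathlib.Tactic

/-!
The six-dimensional elliptic space over the field with two elements: finite verifications.
-/

set_option autoImplicit false
set_option maxRecDepth 20000
set_option synthInstance.maxSize 4000
set_option synthInstance.maxHeartbeats 400000

namespace Cfsg.Agent.SuzT

local notation "F" => ZMod 2

/-- The space `⟨e₀, f₀⟩ ⊥ ⟨e₁, f₁⟩ ⊥ (anisotropic plane)`. -/
abbrev V := (F × F) × ((F × F) × (F × F))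

/-- The quadratic form. -/
def q (v : V) : F :=
  v.1.1 * v.1.2 + v.2.1.1 * v.2.1.2 +
    (v.2.2.1 * v.2.2.1 + v.2.2.1 * v.2.2.2 + v.2.2.2 * v.2.2.2)

/-- Its polar form. -/
def bil (u v : V) : F :=
  u.1.1 * v.1.2 + u.1.2 * v.1.1 + (u.2.1.1 * v.2.1.2 + u.2.1.2 * v.2.1.1) +
    (u.2.2.1 * v.2.2.2 + u.2.2.2 * v.2.2.1)

/-- Scalar multiple. -/
def sm (c : F) (v : V) : V := if c = 0 then 0 else v

/-- First singular vector. -/
def e0 : V := ((1, 0), ((0, 0), (0, 0)))
/-- Its partner. -/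
def f0 : V := ((0, 1), ((0, 0), (0, 0)))
/-- Second singular vector. -/
def e1 : V := ((0, 0), ((1, 0), (0, 0)))
/-- Its partner. -/
def f1 : V := ((0, 0), ((0, 1), (0, 0)))
/-- Basis of the anisotropic plane. -/
def a0 : V := ((0, 0), ((0, 0), (1, 0)))
/-- Basis of the anisotropic plane. -/
def v0 : V := ((0, 0), ((0, 0), (0, 1)))

/-- The subspace orthogonal to `e₀` and `f₀`. -/
abbrev W := (F × F) × (F × F)

/-- Inclusion of `W`. -/
def inW (w : W) : V := ((0, 0), w)

/-- The projection to `W`. -/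
def wp (v : V) : W := v.2

/-- The transvection at a vector. -/
def tr (a x : V) : V := x + sm (bil x a) a

/-- The Siegel transformation at a singular vector. -/
def sg (e v x : V) : V := x + sm (bil x v) e + sm (bil x e) (v + sm (q v) e)

/-- The criterion for lying in the radical of the stabiliser of the vector `e`. -/
def InRad (f : V → V) (e : V) : Prop :=
  q e = 0 ∧ e ≠ 0 ∧ f e = e ∧ ∀ x, bil x e = 0 → f x = x ∨ f x = x + e

/-- A pair spanning an anisotropic plane of `W`. -/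
def APair (a v : W) : Prop :=
  q (inW a) = 1 ∧ q (inW v) = 1 ∧ bil (inW a) (inW v) = 1

instance (a v : W) : Decidable (APair a v) := by unfold APair; infer_instance

theorem q_add : ∀ u v : V, q (u + v) = q u + q v + bil u v := by decide +kernel

theorem q_zero : q 0 = 0 := by decide +kernel

theorem bil_comm : ∀ u v : V, bil u v = bil v u := by decide +kernel

theorem bil_self : ∀ u : V, bil u u = 0 := by decide +kernel

theorem bil_add_left (u v w : V) : bil (u + v) w = bil u w + bil v w := by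
  simp only [bil, Prod.fst_add, Prod.snd_add]; ring

theorem bil_add_right (u v w : V) : bil u (v + w) = bil u v + bil u w := by
  simp only [bil, Prod.fst_add, Prod.snd_add]; ring

theorem add_self : ∀ u : V, u + u = 0 := by decide +kernel

theorem bil_zero : ∀ u : V, bil u 0 = 0 ∧ bil 0 u = 0 := by decide +kernel

theorem bil_nondeg : ∀ u : V, u ≠ 0 → ∃ v, bil u v = 1 := by decide +kernel

theorem q_e0 : q e0 = 0 ∧ e0 ≠ 0 := by decide +kernel

theorem pair0 : APair (wp a0) (wp v0) := by decide +kernel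

theorem perp_e0 : ∀ x : V, bil x e0 = 0 →
    x = inW (wp x) ∨ x = inW (wp x) + e0 := by decide +kernel

theorem inW_add : ∀ a b : W, inW (a + b) = inW a + inW b := fun a b => by
  simp [inW, Prod.ext_iff]

theorem wp_inW (w : W) : wp (inW w) = w := rfl

theorem bil_inW_e0 : ∀ w : W, bil (inW w) e0 = 0 ∧ bil (inW w) f0 = 0 := by decide +kernel

theorem bil_wp : ∀ x y : V, bil x e0 = 0 → bil y e0 = 0 →
    bil x y = bil (inW (wp x)) (inW (wp y)) := by decide +kernel

theorem q_wp : ∀ x : V, bil x e0 = 0 → q x = q (inW (wp x)) := by decide +kernel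

theorem tr_tr : ∀ a x : V, q a = 1 → tr a (tr a x) = x := by decide +kernel

theorem tr_q : ∀ a x : V, q a = 1 → q (tr a x) = q x := by decide +kernel

theorem sm_add : ∀ (c d : F) (v : V), sm (c + d) v = sm c v + sm d v := by decide +kernel

theorem tr_add (a x y : V) : tr a (x + y) = tr a x + tr a y := by
  simp only [tr, bil_add_left, sm_add]; abel

theorem sg_eq_tr : ∀ v : W, q (inW v) = 1 → ∀ x : V,
    sg e0 (inW v) x = tr (inW v) (tr (inW v + e0) x) := by decide +kernel

theorem sg_eq_tr' : ∀ u : F × F, u ≠ 0 → ∀ x : V,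
    sg e1 ((0, 0), ((0, 0), u)) x =
      tr ((0, 0), ((0, 0), u)) (tr (((0, 0), ((0, 0), u)) + e1) x) := by decide +kernel

theorem split_w : ∀ v : W, v = 0 ∨ q (inW v) = 1 ∨
    ∃ a : W, q (inW a) = 1 ∧ q (inW (v + a)) = 1 := by decide +kernel

theorem sg_add_sg : ∀ v w : W, ∀ x : V,
    sg e0 (inW v) (sg e0 (inW w) x) = sg e0 (inW (v + w)) x := by decide +kernel

theorem sg_e0_perp : ∀ v : W, ∀ x : V, bil x e0 = 0 →
    sg e0 (inW v) x = x + sm (bil x (inW v)) e0 := by decide +kernel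

theorem sg_f0 : ∀ v : W, sg e0 (inW v) f0 = f0 + inW v + sm (q (inW v)) e0 := by decide +kernel

theorem sg_fix : ∀ v : W, v ≠ 0 → ∀ x : V,
    (sg e0 (inW v) x + x = 0 ∨ sg e0 (inW v) x + x = e0) → bil x e0 = 0 := by decide +kernel

theorem sg_inj : ∀ v w : W, sg e0 (inW v) f0 = sg e0 (inW w) f0 → v = w := by decide +kernel

theorem pair_cases : ∀ a v : W, q (inW a) = bil (inW a) (inW v) →
    q (inW v) = bil (inW a) (inW v) → a = 0 ∨ v = 0 ∨ a = v ∨ APair a v := by decide +kernel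

theorem pair_ne : ∀ a v : W, APair a v → a ≠ 0 ∧ v ≠ 0 ∧ a ≠ v := by decide +kernel

theorem move_sing : ∀ e : V, q e = 0 → e ≠ 0 →
    ∃ a : V, q a = 1 ∧ ∃ b : V, q b = 1 ∧ tr a (tr b e0) = e := by decide +kernel

theorem move_w : ∀ x y : W, q (inW x) = q (inW y) → x ≠ 0 → y ≠ 0 →
    ∃ a : W, q (inW a) = 1 ∧ ∃ b : W, q (inW b) = 1 ∧
      tr (inW a) (tr (inW b) (inW x)) = inW y := by decide +kernel

theorem move_fix : ∀ a v w : W, APair a v → APair a w →
    ∃ c : W, q (inW c) = 1 ∧ ∃ d : W, q (inW d) = 1 ∧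
      tr (inW c) (tr (inW d) (inW a)) = inW a ∧
      tr (inW c) (tr (inW d) (inW v)) = inW w := by decide +kernel

theorem tr_e0 : ∀ a : W, tr (inW a) e0 = e0 := by decide +kernel

theorem sg_e1_fix : ∀ x : W,
    (∀ u : F × F, u ≠ 0 →
      wp (sg e1 ((0, 0), ((0, 0), u)) (inW x)) = x) → x = 0 ∨ x = wp e1 := by decide +kernel

theorem rad_unique : ∀ v : W, q (inW v) = 1 → ∀ e : V, InRad (sg e0 (inW v)) e → e = e0 := by
  unfold InRad
  decide +kernel

theorem shift_all : ∀ c d : F, ∃ w : W,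
    bil (inW w) (inW (wp a0)) + bil (inW w) (inW (wp v0)) = c ∧
      bil (inW w) (inW (wp v0)) = d := by decide +kernel

theorem plus_pair : ∃ w₁ w₂ : W,
    bil (inW w₁) (inW (wp a0)) = 0 ∧ bil (inW w₁) (inW (wp v0)) = 0 ∧
    bil (inW w₂) (inW (wp a0)) = 0 ∧ bil (inW w₂) (inW (wp v0)) = 0 ∧
    bil (inW w₁) (inW w₂) = 1 := by decide +kernel

theorem plus_nondeg : ∀ x : W,
    bil (inW x) (inW (wp a0)) = 0 → bil (inW x) (inW (wp v0)) = 0 →
    (∀ y : W, bil (inW y) (inW (wp a0)) = 0 → bil (inW y) (inW (wp v0)) = 0 →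
      bil (inW x) (inW y) = 0) → x = 0 := by decide +kernel

theorem sing_span : ∀ x : W, q (inW x) = 0 → x ≠ 0 →
    ∃ y : W, q (inW y) = 0 ∧ y ≠ 0 ∧ bil (inW x) (inW y) = 1 := by decide +kernel

end Cfsg.Agent.SuzT
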