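import Cfsg.Agent.Lib.SuzT.Space

/-!
A group of order 64 of isometries, with the facts about it used for the Sylow argument.
-/

set_option autoImplicit false
set_option maxRecDepth 20000
set_option synthInstance.maxSize 4000
set_option synthInstance.maxHeartbeats 400000

namespace Cfsg.Agent.SuzT

local notation "F" => ZMod 2

/-- The vector of the anisotropic plane with the given coordinates. -/
def plane (u : F × F) : V := ((0, 0), ((0, 0), u))

/-- The parameters. -/
abbrev SIdx := W × (F × F)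

/-- The isometry with the given parameters. -/
def fS (i : SIdx) (x : V) : V := sg e0 (inW i.1) (sg e1 (plane i.2) x)

/-- The product of parameters. -/
def sMul (i j : SIdx) : SIdx := (i.1 + wp (sg e1 (plane i.2) (inW j.1)), i.2 + j.2)

/-- The parameters after conjugation by the transvection at `a₀`. -/
def sTw (i : SIdx) : SIdx := (wp (tr a0 (inW i.1)), (tr a0 (plane i.2)).2.2)

theorem sg_comm : ∀ u : F × F, ∀ v : W, ∀ x : V,
    sg e1 (plane u) (sg e0 (inW v) x) =
      sg e0 (inW (wp (sg e1 (plane u) (inW v)))) (sg e1 (plane u) x) := by decide +kernel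

theorem sg_e1_add : ∀ u u' : F × F, ∀ x : V,
    sg e1 (plane u) (sg e1 (plane u') x) = sg e1 (plane (u + u')) x := by decide +kernel

theorem sg_zero : ∀ x : V, sg e1 (plane 0) x = x ∧ sg e0 (inW 0) x = x := by decide +kernel

theorem fS_mul (i j : SIdx) (x : V) : fS i (fS j x) = fS (sMul i j) x := by
  show sg e0 _ (sg e1 _ (sg e0 _ (sg e1 _ x))) = sg e0 _ (sg e1 _ x)
  rw [sg_comm, sg_add_sg, sg_e1_add]
  rfl

theorem fS_inj : ∀ i j : SIdx, fS i f0 = fS j f0 → fS i f1 = fS j f1 → i = j := by decide +kernel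

theorem fS_invol : ∀ i : SIdx, fS i (fS i f0) = f0 → fS i (fS i f1) = f1 → i ≠ 0 →
    ∃ e : V, InRad (fS i) e := by
  unfold InRad
  decide +kernel

theorem tr_fS : ∀ i : SIdx, ∀ x : V, tr a0 (fS i x) = fS (sTw i) (tr a0 x) := by decide +kernel

theorem tr_ne_fS : ∀ i : SIdx, ∃ x : V, fS i x ≠ tr a0 x := by decide +kernel

theorem tr_braid {a b : V} (hab : bil a b = 1) (x : V) :
    tr a (tr b (tr a x)) = tr (a + b) x := by
  have cases2 : ∀ c : F, c = 0 ∨ c = 1 := by decide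
  have h10 : ((1 : F) = 0) = False := by decide
  have h11 : (1 : F) + 1 = 0 := by decide
  have hba : bil b a = 1 := by rw [bil_comm]; exact hab
  have haa : a + a = 0 := add_self a
  have hbb : b + b = 0 := add_self b
  rcases cases2 (bil x a) with h | h <;> rcases cases2 (bil x b) with h' | h' <;>
    simp [tr, sm, h, h', hab, hba, h10, h11, bil_self, bil_add_left, bil_add_right, add_assoc, haa,
      add_comm a b] <;> abel_nf <;> simp [two_nsmul, haa, hbb]

theorem order_three (a b : V) (ha : q a = 1) (hb : q b = 1) (hab : bil a b = 1) (x : V) :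
    tr a (tr b (tr a (tr b (tr a (tr b x))))) = x := by
  have hba : bil b a = 1 := by rw [bil_comm]; exact hab
  rw [tr_braid hab (tr b (tr a (tr b x))), tr_braid hba x, add_comm b a, tr_tr]
  rw [q_add, ha, hb, hab]; decide

theorem connect : ∀ a b : V, q a = 1 → q b = 1 → a = b ∨ bil a b = 1 ∨
    ∃ c : V, q c = 1 ∧ bil a c = 1 ∧ bil c b = 1 := by decide +kernel

theorem comb : ∀ x : V, x = sm x.1.1 e0 + sm x.1.2 f0 + sm x.2.1.1 e1 + sm x.2.1.2 f1 +
    sm x.2.2.1 a0 + sm x.2.2.2 v0 := by decide +kernel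

theorem rot_pair : ∀ x y : V, q x = 0 → q y = 0 → x ≠ 0 → y ≠ 0 → bil x y = 1 →
    (∀ w : V, w = e0 ∨ w = f0 ∨ w = a0 ∨ w = v0 → bil x w = 0 ∧ bil y w = 0) →
    x = e1 ∧ y = f1 ∨ x = f1 ∧ y = e1 := by decide +kernel

theorem rot_swap : tr (e1 + f1) e0 = e0 ∧ tr (e1 + f1) f0 = f0 ∧ tr (e1 + f1) a0 = a0 ∧
    tr (e1 + f1) v0 = v0 ∧ tr (e1 + f1) e1 = f1 ∧ tr (e1 + f1) f1 = e1 ∧ q (e1 + f1) = 1 := by
  decide +kernel

theorem base_facts : bil e1 f1 = 1 ∧ q e1 = 0 ∧ q f1 = 0 ∧ e1 ≠ 0 ∧ f1 ≠ 0 ∧ q a0 = 1 ∧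
    (∀ w : V, w = e0 ∨ w = f0 ∨ w = a0 ∨ w = v0 → bil e1 w = 0 ∧ bil f1 w = 0) := by
  decide +kernel

theorem to_f0 : ∀ y : V, q y = 0 → bil y e0 = 1 →
    ∃ w : W, sg e0 (inW w) y = f0 := by decide +kernel

theorem fix_pair : ∀ x : V, bil x e0 = 0 → bil x f0 = 0 →
    (x + a0 = 0 ∨ x + a0 = e0 → x = a0) ∧ (x + v0 = 0 ∨ x + v0 = e0 → x = v0) := by decide +kernel

end Cfsg.Agent.SuzT
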